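import Cfsg.Agent.H221.PPMain
import Cfsg.Agent.H408.Out
import Cfsg.Agent.S0255
import Cfsg.Agent.S0256

/-!
# Subgroups of `p`-power index in `PSL_d(q)`, `d ≥ 3`, `p` the characteristic (helper221)
-/

set_option autoImplicit false

namespace Cfsg.Agent.H221.PP

open Module

variable {F : Type*} [Field F] {p k d : ℕ}

/-- matrix form -/
theorem sl_matrix [Finite F] [CharP F p] (hp : p.Prime) (hd : 3 ≤ d) {H : Subgroup (Matrix.SpecialLinearGroup (Fin d) F)}
    (hH : H.index = p ^ k) (hne : H ≠ ⊤) : Nat.card F = 2 ∧ (d = 3 ∨ d = 4) ∧ H.index = 8 := by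
  let e : Matrix.SpecialLinearGroup (Fin d) F ≃* SpecialLinearGroup F (Fin d → F) :=
    Matrix.SpecialLinearGroup.toLin'_equiv
  have h1 : (H.comap e.symm.toMonoidHom).index = H.index :=
    Subgroup.index_comap_of_surjective _ e.symm.surjective
  have h2 : H.comap e.symm.toMonoidHom ≠ ⊤ := by
    intro h
    rw [h, Subgroup.index_top] at h1
    exact hne (Subgroup.index_eq_one.1 h1.symm)
  obtain ⟨h3, h4, h5⟩ := main (F := F) (V := Fin d → F) hp (by rw [finrank_fin_fun]; exact hd)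
    (h1.trans hH) h2
  rw [finrank_fin_fun] at h4
  exact ⟨h3, h4, by rw [← h1, h5]⟩

/-- projective form -/
theorem psl_matrix [Finite F] [CharP F p] (hp : p.Prime) (hd : 3 ≤ d)
    {H : Subgroup (Matrix.ProjectiveSpecialLinearGroup (Fin d) F)}
    (hH : H.index = p ^ k) (hne : H ≠ ⊤) : Nat.card F = 2 ∧ (d = 3 ∨ d = 4) ∧ H.index = 8 := by
  have hs : Function.Surjective (QuotientGroup.mk' (Subgroup.center (Matrix.SpecialLinearGroup (Fin d) F))) :=
    QuotientGroup.mk'_surjective _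
  have h1 : (H.comap (QuotientGroup.mk' (Subgroup.center (Matrix.SpecialLinearGroup (Fin d) F)))).index = H.index :=
    Subgroup.index_comap_of_surjective _ hs
  have h2 : H.comap (QuotientGroup.mk' (Subgroup.center (Matrix.SpecialLinearGroup (Fin d) F))) ≠ ⊤ := by
    intro h
    rw [h, Subgroup.index_top] at h1
    exact hne (Subgroup.index_eq_one.1 h1.symm)
  obtain ⟨h3, h4, h5⟩ := sl_matrix (F := F) hp hd (h1.trans hH) h2
  exact ⟨h3, h4, by rw [← h1, h5]⟩

/-- no proper subgroup of `p`-power index -/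
theorem good_sl [Finite F] [CharP F p] (hp : p.Prime) (hd : 3 ≤ d) (h : ¬ (Nat.card F = 2 ∧ (d = 3 ∨ d = 4))) :
    Cfsg.Agent.H408.Core.Good p (Matrix.SpecialLinearGroup (Fin d) F) := by
  intro H k hH
  by_contra hne
  obtain ⟨h3, h4, -⟩ := sl_matrix hp hd hH hne
  exact h ⟨h3, h4⟩

/-- no proper subgroup of `p`-power index -/
theorem good [Finite F] [CharP F p] (hp : p.Prime) (hd : 3 ≤ d) (h : ¬ (Nat.card F = 2 ∧ (d = 3 ∨ d = 4))) :
    Cfsg.Agent.H408.Core.Good p (Matrix.ProjectiveSpecialLinearGroup (Fin d) F) := by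
  intro H k hH
  by_contra hne
  obtain ⟨h3, h4, -⟩ := psl_matrix hp hd hH hne
  exact h ⟨h3, h4⟩

/-- the statement of S3608 for `PSL_d(q)`, `d ≥ 3`, in the own characteristic -/
theorem idx [Fintype F] [CharP F p] (hp : p.Prime) (hd : 3 ≤ d) :
    Cfsg.Agent.H408.Idx8.Idx (Matrix.ProjectiveSpecialLinearGroup (Fin d) F) p := by
  intro H k hk hH
  have hne : H ≠ ⊤ := by
    rintro rfl
    rw [Subgroup.index_top] at hH
    have h2 := Nat.one_lt_pow (by omega : k ≠ 0) hp.one_lt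
    omega
  obtain ⟨hF, hd', h8⟩ := psl_matrix hp hd hH hne
  rw [Nat.card_eq_fintype_card] at hF
  rw [hH] at h8
  rcases hd' with rfl | rfl
  · have : Fact (Nat.Prime 7) := ⟨by norm_num⟩
    obtain ⟨e⟩ := Cfsg.Agent.S0255.result (F := ZMod 7) (K := F) (ZMod.card 7) hF
    refine Or.inr (Or.inl ⟨2, ZMod 7, inferInstance, inferInstance, le_rfl, ?_, ⟨e.symm⟩⟩)
    rw [h8, ZMod.card]
    norm_num
  · obtain ⟨e⟩ := Cfsg.Agent.S0256.result hF
    exact Or.inl ⟨by omega, by rw [h8]; exact ⟨e⟩⟩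

end Cfsg.Agent.H221.PP
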