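import Cfsg.Agent.H475.KGL.Rows
import Cfsg.Agent.H539.SocBound
import Cfsg.Agent.Lib.MinNormal

/-!
# Project KGL, task S1a: class numbers of subnormal subgroups acting on a product of simple groups (helper221)
-/

set_option autoImplicit false

namespace Cfsg.Agent.H221.KGLStruct

open Subgroup Cfsg.Agent.H475.KGL Cfsg.Agent.H540.ClassNum

/-- Subnormal subgroups of an almost simple group. -/
theorem bot_or_le {Y : Type*} [Group Y] (S : Subgroup Y) (hSn : S.Normal) [IsSimpleGroup S]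
    (hc : centralizer (S : Set Y) = ⊥) {X : Subgroup Y} (hX : X.IsSubnormal) : X = ⊥ ∨ S ≤ X := by
  induction hX with
  | top => right; exact le_top
  | step X K hXK hK hN ih =>
    have hconj : ∀ k ∈ K, ∀ x ∈ X, k * x * k⁻¹ ∈ X := fun k hk x hx =>
      hN.conj_mem ⟨x, hXK hx⟩ hx ⟨k, hk⟩
    rcases ih with h | h
    · left
      rw [eq_bot_iff, ← h]
      exact hXK
    · have hn : (X.subgroupOf S).Normal := ⟨fun x hx s => hconj _ (h s.2) _ hx⟩
      rcases hn.eq_bot_or_eq_top with h1 | h1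
      · left
        rw [eq_bot_iff, ← hc]
        intro x hx
        rw [mem_centralizer_iff]
        intro s hs
        have h2 : s * x * s⁻¹ * x⁻¹ ∈ X := X.mul_mem (hconj _ (h hs) _ hx) (X.inv_mem hx)
        have h3 : s * x * s⁻¹ * x⁻¹ ∈ S := by
          have h4 := S.mul_mem hs (hSn.conj_mem _ (S.inv_mem hs) x)
          have h5 : s * (x * s⁻¹ * x⁻¹) = s * x * s⁻¹ * x⁻¹ := by group
          rwa [h5] at h4
        have h4 : (⟨_, h3⟩ : S) ∈ X.subgroupOf S := h2
        rw [h1, mem_bot] at h4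
        have h5 : s * x * s⁻¹ * x⁻¹ = 1 := congrArg Subtype.val h4
        rw [mul_inv_eq_one, mul_inv_eq_iff_eq_mul] at h5
        exact h5
      · right
        intro s hs
        have h2 : (⟨s, hs⟩ : S) ∈ X.subgroupOf S := by rw [h1]; exact mem_top _
        exact h2

section

variable {T : Type} [Group T]

theorem conj_mul (φ : MulAut T) (t : T) : φ * MulAut.conj t * φ⁻¹ = MulAut.conj (φ t) := by
  ext s
  simp [MulAut.mul_apply]

theorem conj_injective [IsSimpleGroup T] (hT : ∃ x y : T, x * y ≠ y * x) :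
    Function.Injective (MulAut.conj : T →* MulAut T) := by
  rw [← MonoidHom.ker_eq_bot_iff]
  rcases (inferInstance : (MulAut.conj : T →* MulAut T).ker.Normal).eq_bot_or_eq_top with h | h
  · exact h
  · exfalso
    obtain ⟨x, y, hxy⟩ := hT
    apply hxy
    have h1 : x ∈ (MulAut.conj : T →* MulAut T).ker := by rw [h]; exact mem_top _
    have h2 := congrArg (fun a : MulAut T => a y) (MonoidHom.mem_ker.1 h1)
    have h3 : x * y * x⁻¹ = y := h2
    rwa [mul_inv_eq_iff_eq_mul] at h3

/-- Subgroups of `Aut T` which are subnormal in a group containing `Inn T`. -/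
theorem inn_le [IsSimpleGroup T] (hT : ∃ x y : T, x * y ≠ y * x) (Y : Subgroup (MulAut T))
    (hY : (MulAut.conj : T →* MulAut T).range ≤ Y) {X : Subgroup Y} (hX : X.IsSubnormal) :
    X = ⊥ ∨ (MulAut.conj : T →* MulAut T).range ≤ X.map Y.subtype := by
  have hinj := conj_injective hT
  have hSn : ((MulAut.conj : T →* MulAut T).range.subgroupOf Y).Normal := by
    refine ⟨?_⟩
    rintro ⟨_, _⟩ ⟨t, rfl⟩ φ
    exact ⟨(φ : MulAut T) t, (conj_mul _ _).symm⟩
  have e : T ≃* ((MulAut.conj : T →* MulAut T).range.subgroupOf Y) :=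
    (MonoidHom.ofInjective hinj).trans (subgroupOfEquivOfLe hY).symm
  have hs : IsSimpleGroup ((MulAut.conj : T →* MulAut T).range.subgroupOf Y) :=
    (MulEquiv.isSimpleGroup_congr e).1 inferInstance
  have hc : centralizer (((MulAut.conj : T →* MulAut T).range.subgroupOf Y : Subgroup Y) : Set Y) = ⊥ := by
    rw [eq_bot_iff]
    intro φ hφ
    rw [mem_bot]
    apply Subtype.ext
    ext t
    rw [mem_centralizer_iff] at hφ
    have h1 := hφ ⟨MulAut.conj t, hY ⟨t, rfl⟩⟩ ⟨t, rfl⟩
    have h2 : MulAut.conj t * (φ : MulAut T) = (φ : MulAut T) * MulAut.conj t := congrArg Subtype.val h1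
    have h3 := conj_mul (φ : MulAut T) t
    rw [← h2, mul_inv_cancel_right] at h3
    exact (hinj h3).symm
  rcases bot_or_le _ hSn hc hX with h | h
  · exact Or.inl h
  · right
    rintro _ ⟨t, rfl⟩
    exact ⟨⟨MulAut.conj t, hY ⟨t, rfl⟩⟩, h ⟨t, rfl⟩, rfl⟩

theorem one_le_of_UBk [Finite T] {κ : ℕ} (hκ : UBk T κ) : 1 ≤ κ :=
  (card_conjClasses_pos (G := (⊤ : Subgroup (MulAut T)))).trans_le (hκ ⊤ le_top)

theorem kc_subgroupOf {D : Type*} [Group D] (A B : Subgroup D) :
    kc (A.subgroupOf B) = kc ↥(B ⊓ A) := by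
  rw [← inf_subgroupOf_right A B, inf_comm A B]
  exact card_conjClasses_congr (subgroupOfEquivOfLe inf_le_left)

/-- One factor. -/
theorem step [Finite T] [IsSimpleGroup T] (hT : ∃ x y : T, x * y ≠ y * x) {κ : ℕ} (hκ : UBk T κ)
    {D : Type*} [Group D] [Finite D] (g : D →* MulAut T)
    (hg : (MulAut.conj : T →* MulAut T).range ≤ g.range) {B : Subgroup D} (hB : B.IsSubnormal) :
    kc B ≤ kc ↥(B ⊓ g.ker) * κ := by
  have h1 := le_ker_mul_range (g.comp B.subtype)
  have h2 : (g.comp B.subtype).ker = g.ker.subgroupOf B := rfl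
  rw [h2] at h1
  refine h1.trans ?_
  rw [← kc_subgroupOf]
  refine Nat.mul_le_mul_left _ ?_
  have hX : (B.map g.rangeRestrict).IsSubnormal := hB.map g.rangeRestrict_surjective
  have hr : (g.comp B.subtype).range = (B.map g.rangeRestrict).map g.range.subtype := by
    rw [Subgroup.map_map, MonoidHom.range_comp, range_subtype]
    rfl
  rw [hr]
  rcases inn_le hT g.range hg hX with h | h
  · rw [h, Subgroup.map_bot]
    refine le_trans ?_ (one_le_of_UBk hκ)
    refine card_conjClasses_le_card.trans ?_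
    rw [card_bot]
  · exact hκ _ h

/-- Several factors. -/
theorem family [Finite T] [IsSimpleGroup T] (hT : ∃ x y : T, x * y ≠ y * x) {κ : ℕ} (hκ : UBk T κ)
    {D : Type*} [Group D] [Finite D] {ι : Type*} (g : ι → D →* MulAut T)
    (hg : ∀ i, (MulAut.conj : T →* MulAut T).range ≤ (g i).range) {B : Subgroup D}
    (hB : B.IsSubnormal) (s : Finset ι) :
    kc B ≤ kc ↥(B ⊓ ⨅ i ∈ s, (g i).ker) * κ ^ s.card := by
  classical
  induction s using Finset.induction_on with
  | empty =>
    have h0 : (⨅ i ∈ (∅ : Finset ι), (g i).ker) = ⊤ := by simp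
    rw [h0, inf_top_eq, Finset.card_empty, pow_zero, mul_one]
  | insert a s ha ih =>
    refine ih.trans ?_
    have hn : (⨅ i ∈ s, (g i).ker).Normal := by
      refine normal_iInf_normal fun i => ?_
      exact normal_iInf_normal fun _ => inferInstance
    have h1 : (B ⊓ ⨅ i ∈ s, (g i).ker).IsSubnormal := hB.inf hn.isSubnormal
    have h2 := step hT hκ (g a) (hg a) h1
    have h3 : (B ⊓ ⨅ i ∈ s, (g i).ker) ⊓ (g a).ker = B ⊓ ⨅ i ∈ insert a s, (g i).ker := by
      rw [Finset.iInf_insert, inf_assoc, inf_comm (⨅ i ∈ s, (g i).ker)]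
    rw [h3] at h2
    rw [Finset.card_insert_of_notMem ha, pow_succ', ← mul_assoc]
    exact Nat.mul_le_mul_right _ h2

/-- **The class number bound.** -/
theorem bound [Finite T] [IsSimpleGroup T] (hT : ∃ x y : T, x * y ≠ y * x) {κ : ℕ} (hκ : UBk T κ)
    (h2 : Perm2) {H : Type*} [Group H] [Finite H] {t : ℕ} (P : H →* Equiv.Perm (Fin t))
    (g : Fin t → P.ker →* MulAut T)
    (hg : ∀ i, (MulAut.conj : T →* MulAut T).range ≤ (g i).range) {N : Subgroup H}
    (hN : N.IsSubnormal) {z : ℕ}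
    (hz : ∀ K : Subgroup P.ker, (∀ x ∈ K, (x : H) ∈ N ∧ ∀ i, g i x = 1) → Nat.card K ≤ z) :
    kc N ≤ z * κ ^ t * 2 ^ (t - 1) := by
  have h1 := le_ker_mul_range (P.comp N.subtype)
  have h3 : (P.comp N.subtype).ker = P.ker.subgroupOf N := rfl
  rw [h3] at h1
  refine h1.trans (Nat.mul_le_mul ?_ (h2 t _))
  have h4 : kc (P.ker.subgroupOf N) = kc (N.subgroupOf P.ker) := by
    rw [kc_subgroupOf, kc_subgroupOf, inf_comm]
  refine h4.le.trans ?_
  refine (family hT hκ g hg hN.subgroupOf Finset.univ).trans ?_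
  rw [Finset.card_univ, Fintype.card_fin]
  refine Nat.mul_le_mul_right _ (card_conjClasses_le_card.trans (hz _ ?_))
  intro x hx
  obtain ⟨h5, h6⟩ := mem_inf.1 hx
  refine ⟨h5, fun i => ?_⟩
  rw [mem_iInf] at h6
  have h7 := h6 i
  rw [mem_iInf] at h7
  exact h7 (Finset.mem_univ i)

end

end Cfsg.Agent.H221.KGLStruct
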