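import Cfsg.Agent.H221.KGLClass

/-!
# Project KGL, task S1a: the components case of the basic situation (helper221)
-/

set_option autoImplicit false

namespace Cfsg.Agent.H221.KGLStruct

open Subgroup Cfsg.Agent.H475.KGL Cfsg.Agent.H539.SocBound
open scoped commutatorElement

universe u v

section Gen

variable {p e : ℕ} {H : Type u} [Group H] {A M C : Subgroup H} {W : Type v}
  [AddCommGroup W] [Module (ZMod p) W] {ρ : C →* (W ≃ₗ[ZMod p] W)}

theorem comm_C (h : BSit p e A M C ρ) {a : H} (ha : a ∈ C) (haM : ∀ m ∈ M, a * m = m * a) {c : H}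
    (hc : c ∈ C) : a * c = c * a := by
  have h1 := h.endC (ρ ⟨a, ha⟩ : W →ₗ[ZMod p] W) (fun m hm w => by
    have h2 : (⟨a, ha⟩ : C) * m = m * ⟨a, ha⟩ := Subtype.ext (haM m hm)
    have h3 := congrArg (fun z : C => ρ z w) h2
    simp only [map_mul] at h3
    exact h3) ⟨c, hc⟩
  have h2 : ρ (⟨a, ha⟩ * ⟨c, hc⟩) = ρ (⟨c, hc⟩ * ⟨a, ha⟩) := by
    rw [map_mul, map_mul]
    ext w
    exact h1 w
  exact congrArg Subtype.val (h.inj h2)

theorem card_le [Finite W] (h : BSit p e A M C ρ) {K : Type*} [Finite K] (j : K → H)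
    (hj : Function.Injective j) (hC : ∀ x, j x ∈ C) (hM : ∀ x, ∀ m ∈ M, j x * m = m * j x) :
    Nat.card K ≤ p ^ e - 1 := by
  have hW := h.nt
  let E := {f : W →ₗ[ZMod p] W // ∀ m : C, (m : H) ∈ M → ∀ w, f (ρ m w) = ρ m (f w)}
  have hE : Nat.card E = p ^ e := h.endq
  have hfin : Finite E := by
    have : Finite (W →ₗ[ZMod p] W) := Finite.of_injective (fun f => (f : W → W)) DFunLike.coe_injective
    exact inferInstance
  let F : Option K → E := fun o => match o with
    | none => ⟨0, fun m _ w => by simp⟩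
    | some x => ⟨(ρ ⟨j x, hC x⟩ : W →ₗ[ZMod p] W), fun m hm w => by
        have h2 : (⟨j x, hC x⟩ : C) * m = m * ⟨j x, hC x⟩ := Subtype.ext (hM x m hm)
        have h3 := congrArg (fun z : C => ρ z w) h2
        simp only [map_mul] at h3
        exact h3⟩
  have hF : Function.Injective F := by
    have h0 : ∀ x, F none ≠ F (some x) := by
      intro x hx
      obtain ⟨w, hw⟩ := exists_ne (0 : W)
      have h1 := congrArg (fun f : E => (f.1 w : W)) hx
      have h2 : (0 : W) = ρ ⟨j x, hC x⟩ w := h1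
      exact hw ((LinearEquiv.map_eq_zero_iff _).1 h2.symm)
    intro x y hxy
    cases x with
    | none => cases y with
      | none => rfl
      | some y => exact absurd hxy (h0 y)
    | some x => cases y with
      | none => exact absurd hxy.symm (h0 x)
      | some y =>
        have h1 : (ρ ⟨j x, hC x⟩ : W →ₗ[ZMod p] W) = (ρ ⟨j y, hC y⟩ : W →ₗ[ZMod p] W) :=
          congrArg Subtype.val hxy
        have h2 := h.inj (LinearEquiv.toLinearMap_injective h1)
        have h3 := hj (congrArg Subtype.val h2)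
        rw [h3]
  have h1 := Nat.card_le_card_of_injective F hF
  rw [hE, Finite.card_option] at h1
  omega

theorem eq_sup (h : BSit p e A M C ρ) (hab : ¬ ∀ x ∈ M, ∀ y ∈ M, x * y * x⁻¹ * y⁻¹ ∈ A) :
    A ⊔ ⁅M, M⁆ = M := by
  have := h.nA
  have := h.nM
  rcases h.chief (A ⊔ ⁅M, M⁆) inferInstance le_sup_left
    (sup_le h.lt.le (commutator_le_right M M)) with h1 | h1
  · exfalso
    apply hab
    intro x hx y hy
    have h2 : ⁅x, y⁆ ∈ A ⊔ ⁅M, M⁆ := mem_sup_right (commutator_mem_commutator hx hy)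
    rw [h1] at h2
    exact h2
  · exact h1

/-- An element of `C` centralising `M / A` centralises `M`. -/
theorem comm_M (h : BSit p e A M C ρ) (hab : ¬ ∀ x ∈ M, ∀ y ∈ M, x * y * x⁻¹ * y⁻¹ ∈ A) {c : H}
    (hc : c ∈ C) (hcM : ∀ m ∈ M, c * m * c⁻¹ * m⁻¹ ∈ A) : ∀ m ∈ M, c * m = m * c := by
  have := h.nA
  have := h.nM
  have h1 : M ≤ centralizer {c} := by
    conv_lhs => rw [← eq_sup h hab]
    refine sup_le ?_ ?_
    · intro a ha
      rw [mem_centralizer_singleton_iff]
      exact comm_C h (h.le (h.lt.le ha)) (fun m hm => h.com a ha m hm) hc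
    · rw [commutator_le]
      intro x hx y hy
      rw [mem_centralizer_singleton_iff]
      obtain ⟨a, ha, hxa⟩ : ∃ a ∈ A, c * x * c⁻¹ = a * x := ⟨_, hcM x hx, by group⟩
      obtain ⟨b, hb, hyb⟩ : ∃ b ∈ A, c * y * c⁻¹ = b * y := ⟨_, hcM y hy, by group⟩
      have e1 : c * ⁅x, y⁆ * c⁻¹ = ⁅x, y⁆ := by
        have e2 : c * ⁅x, y⁆ * c⁻¹ = (c * x * c⁻¹) * (c * y * c⁻¹) * (c * x * c⁻¹)⁻¹ * (c * y * c⁻¹)⁻¹ := by
          rw [commutatorElement_def]
          group
        rw [e2, hxa, hyb, commutatorElement_def]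
        have k1 := h.com a ha
        have k2 := h.com b hb
        have k3 : Commute a x := k1 x hx
        have k4 : Commute a y := k1 y hy
        have k5 : Commute b x := k2 x hx
        have k6 : Commute b y := k2 y hy
        have k7 : Commute a b := k1 b (h.lt.le hb)
        calc a * x * (b * y) * (a * x)⁻¹ * (b * y)⁻¹
            = a * (x * b) * (y * x⁻¹ * a⁻¹) * (y⁻¹ * b⁻¹) := by group
          _ = a * (b * x) * (a⁻¹ * (y * x⁻¹)) * (y⁻¹ * b⁻¹) := by
              rw [← k5.eq, ← ((k4.mul_right k3.inv_right).inv_left).eq]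
          _ = (a * b) * (x * a⁻¹) * (y * x⁻¹ * y⁻¹ * b⁻¹) := by group
          _ = (a * b) * (a⁻¹ * x) * (b⁻¹ * (y * x⁻¹ * y⁻¹)) := by
              rw [← k3.inv_left.eq, ← (((k6.mul_right k5.inv_right).mul_right k6.inv_right).inv_left).eq]
          _ = (a * b * a⁻¹) * (x * b⁻¹) * (y * x⁻¹ * y⁻¹) := by group
          _ = (b * a * a⁻¹) * (b⁻¹ * x) * (y * x⁻¹ * y⁻¹) := by rw [k7.eq, ← k5.inv_left.eq]
          _ = x * y * x⁻¹ * y⁻¹ := by group
      rw [mul_inv_eq_iff_eq_mul] at e1
      exact e1.symm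
  intro m hm
  have h2 := h1 hm
  rw [mem_centralizer_singleton_iff] at h2
  exact h2.symm

end Gen

section Quot

variable {G : Type*} [Group G] [Finite G] (N : Subgroup G) [N.Normal] {T : Type*} [Group T]
  {m : ℕ} (e : N ≃* (Fin m → T))

omit [Finite G] in
theorem io_conj {n : G} (hn : n ∈ N) (i : Fin m) (t : T) :
    n * io N e i t * n⁻¹ = io N e i (e ⟨n, hn⟩ i * t * (e ⟨n, hn⟩ i)⁻¹) := by
  have h1 : (⟨n, hn⟩ : N) * e.symm (Pi.mulSingle i t) * (⟨n, hn⟩ : N)⁻¹ =
      e.symm (Pi.mulSingle i (e ⟨n, hn⟩ i * t * (e ⟨n, hn⟩ i)⁻¹)) := by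
    apply e.injective
    rw [map_mul, map_mul, map_inv, e.apply_symm_apply, e.apply_symm_apply]
    ext j
    by_cases hj : j = i
    · subst hj
      simp
    · simp [Pi.mulSingle_eq_of_ne hj]
  exact congrArg Subtype.val h1

omit [Finite G] in
theorem F_normal {n : G} (hn : n ∈ N) (i : Fin m) {x : G} (hx : x ∈ F N e i) :
    n * x * n⁻¹ ∈ F N e i := by
  obtain ⟨t, rfl⟩ := hx
  exact ⟨_, (io_conj N e hn i t).symm⟩

theorem commutator_eq_top [IsSimpleGroup T] (hT : ∃ x y : T, x * y ≠ y * x) : commutator T = ⊤ := by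
  rcases (inferInstance : (commutator T).Normal).eq_bot_or_eq_top with h | h
  · exfalso
    obtain ⟨x, y, hxy⟩ := hT
    apply hxy
    have h1 : ⁅x, y⁆ ∈ commutator T := commutator_mem_commutator (mem_top _) (mem_top _)
    rw [h, mem_bot, commutatorElement_def, mul_inv_eq_one, mul_inv_eq_iff_eq_mul] at h1
    exact h1
  · exact h

omit [Finite G] in
theorem F_perfect [IsSimpleGroup T] (hT : ∃ x y : T, x * y ≠ y * x) (i : Fin m) :
    ⁅F N e i, F N e i⁆ = F N e i := by
  unfold F
  rw [MonoidHom.range_eq_map, ← map_commutator, ← commutator_def, commutator_eq_top hT]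

omit [Finite G] in
/-- an element centralising all the factors centralises their product -/
theorem mem_centralizer_of (g : G) (h : ∀ i, ∀ t : T, g * io N e i t = io N e i t * g) :
    ∀ x ∈ N, g * x = x * g := by
  intro x hx
  have h2 : ∀ f : Fin m → T, ((e.symm f : N) : G) * g = g * ((e.symm f : N) : G) := by
    have h3 : ∀ f : Fin m → T, f ∈ (Subgroup.centralizer ({g} : Set G)).comap
        (N.subtype.comp e.symm.toMonoidHom) := by
      intro f
      refine Subgroup.pi_mem_of_mulSingle_mem f fun i => ?_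
      rw [Subgroup.mem_comap, Subgroup.mem_centralizer_singleton_iff]
      exact (h i (f i)).symm
    intro f
    have h4 := h3 f
    rw [Subgroup.mem_comap, Subgroup.mem_centralizer_singleton_iff] at h4
    exact h4
  have h3 := h2 (e ⟨x, hx⟩)
  rw [e.symm_apply_apply] at h3
  exact h3.symm

end Quot

section Pre

variable {H : Type*} [Group H] {A M : Subgroup H} {Q : Type*} [Group Q] (q : H →* Q)
  (N : Subgroup Q) [N.Normal] {T : Type*} [Group T] {t : ℕ} (e : N ≃* (Fin t → T))

/-- the preimage of the `i`-th factor -/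
def R (i : Fin t) : Subgroup H := (F N e i).comap q

/-- its derived subgroup -/
def L (i : Fin t) : Subgroup H := ⁅R q N e i, R q N e i⁆

theorem map_R (hqs : Function.Surjective q) (i : Fin t) : (R q N e i).map q = F N e i :=
  map_comap_eq_self_of_surjective hqs _

theorem ker_le_R (i : Fin t) : q.ker ≤ R q N e i := MonoidHom.ker_le_comap _ _

theorem R_le (i : Fin t) : R q N e i ≤ N.comap q := comap_mono (F_le N e i)

theorem L_le_R (i : Fin t) : L q N e i ≤ R q N e i := by
  unfold L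
  rw [commutator_le]
  intro x hx y hy
  rw [commutatorElement_def]
  exact mul_mem (mul_mem (mul_mem hx hy) (inv_mem hx)) (inv_mem hy)

theorem R_normal {n x : H} (hn : q n ∈ N) {i : Fin t} (hx : x ∈ R q N e i) :
    n * x * n⁻¹ ∈ R q N e i := by
  show q (n * x * n⁻¹) ∈ F N e i
  rw [map_mul, map_mul, map_inv]
  exact F_normal N e hn i hx

theorem L_normal {n x : H} (hn : q n ∈ N) {i : Fin t} (hx : x ∈ L q N e i) :
    n * x * n⁻¹ ∈ L q N e i := by
  have h1 : (R q N e i).map (MulAut.conj n).toMonoidHom ≤ R q N e i := by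
    rintro _ ⟨y, hy, rfl⟩
    exact R_normal q N e hn hy
  have h2 : (L q N e i).map (MulAut.conj n).toMonoidHom ≤ L q N e i := by
    unfold L
    rw [map_commutator]
    exact commutator_mono h1 h1
  exact h2 ⟨x, hx, rfl⟩

theorem map_L [IsSimpleGroup T] (hT : ∃ x y : T, x * y ≠ y * x) (hqs : Function.Surjective q)
    (i : Fin t) : (L q N e i).map q = F N e i := by
  unfold L
  rw [map_commutator, map_R q N e hqs, F_perfect N e hT]

theorem R_eq [IsSimpleGroup T] (hT : ∃ x y : T, x * y ≠ y * x) (hqs : Function.Surjective q)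
    (i : Fin t) : R q N e i = L q N e i ⊔ q.ker := by
  rw [← comap_map_eq, map_L q N e hT hqs]
  rfl

/-- `L i` is perfect when the kernel is central in `R i`. -/
theorem L_perfect [IsSimpleGroup T] (hT : ∃ x y : T, x * y ≠ y * x) (hqs : Function.Surjective q)
    (i : Fin t) (hc : ∀ a ∈ q.ker, ∀ x ∈ R q N e i, a * x = x * a) :
    commutator (L q N e i) = ⊤ := by
  have hL : L q N e i ≤ ⁅L q N e i, L q N e i⁆ := by
    conv_lhs => unfold L
    rw [commutator_le]
    intro x hx y hy
    have hn : q.ker.Normal := inferInstance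
    have hx' := hx
    have hy' := hy
    rw [R_eq q N e hT hqs, ← SetLike.mem_coe, mul_normal] at hx' hy'
    obtain ⟨l, hl, a, ha, rfl⟩ := hx'
    obtain ⟨l', hl', b, hb, rfl⟩ := hy'
    have hlR : l ∈ R q N e i := L_le_R q N e i hl
    have hlR' : l' ∈ R q N e i := L_le_R q N e i hl'
    have k1 : Commute a l := hc a ha l hlR
    have k2 : Commute a l' := hc a ha l' hlR'
    have k3 : Commute b l := hc b hb l hlR
    have k4 : Commute b l' := hc b hb l' hlR'
    have k5 : Commute a b := hc a ha b (ker_le_R q N e i hb)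
    have h1 : ⁅l * a, l' * b⁆ = ⁅l, l'⁆ := by
      rw [commutatorElement_def, commutatorElement_def]
      calc (l * a) * (l' * b) * (l * a)⁻¹ * (l' * b)⁻¹
          = l * (a * (l' * b)) * (a⁻¹ * l⁻¹) * (b⁻¹ * l'⁻¹) := by group
        _ = l * ((l' * b) * a) * (a⁻¹ * l⁻¹) * (b⁻¹ * l'⁻¹) := by rw [(k2.mul_right k5).eq]
        _ = l * l' * (b * l⁻¹) * (b⁻¹ * l'⁻¹) := by group
        _ = l * l' * (l⁻¹ * b) * (b⁻¹ * l'⁻¹) := by rw [k3.inv_right.eq]
        _ = l * l' * l⁻¹ * l'⁻¹ := by group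
    rw [h1]
    exact commutator_mem_commutator hl hl'
  have h1 : (commutator (L q N e i)).map (L q N e i).subtype = L q N e i := by
    rw [map_subtype_commutator]
    refine le_antisymm ?_ hL
    rw [commutator_le]
    intro x hx y hy
    rw [commutatorElement_def]
    exact mul_mem (mul_mem (mul_mem hx hy) (inv_mem hx)) (inv_mem hy)
  rw [eq_top_iff]
  intro x _
  have h2 : (x : H) ∈ (commutator (L q N e i)).map (L q N e i).subtype := by
    rw [h1]
    exact x.2
  obtain ⟨y, hy, hyx⟩ := h2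
  rwa [← Subtype.ext (show (y : H) = x from hyx)]

/-- different `L i` commute when the kernel is central. -/
theorem L_comm {i j : Fin t} (hij : i ≠ j)
    (hc : ∀ a ∈ q.ker, ∀ k, ∀ x ∈ R q N e k, a * x = x * a) :
    ∀ x ∈ L q N e i, ∀ y ∈ L q N e j, x * y = y * x := by
  have h1 : ⁅R q N e i, R q N e j⁆ ≤ q.ker := by
    rw [commutator_le]
    intro x hx y hy
    rw [MonoidHom.mem_ker, map_commutatorElement, commutatorElement_eq_one_iff_mul_comm]
    obtain ⟨s, hs⟩ : q x ∈ F N e i := hx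
    obtain ⟨s', hs'⟩ : q y ∈ F N e j := hy
    rw [← hs, ← hs']
    exact io_comm N e hij s s'
  have h2 : ⁅⁅R q N e i, R q N e j⁆, R q N e i⁆ = ⊥ := by
    rw [commutator_eq_bot_iff_le_centralizer]
    intro a ha
    rw [mem_centralizer_iff]
    intro x hx
    exact (hc a (h1 ha) i x hx).symm
  have h3 : ⁅⁅R q N e j, R q N e i⁆, R q N e i⁆ = ⊥ := by
    rw [commutator_comm (R q N e j)]
    exact h2
  have h4 := commutator_commutator_eq_bot_of_rotate h2 h3
  rw [commutator_eq_bot_iff_le_centralizer] at h4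
  intro x hx y hy
  have h5 := h4 hx
  rw [mem_centralizer_iff] at h5
  exact (h5 y (L_le_R q N e j hy)).symm

end Pre

section Main

variable {p e : ℕ} [Fact p.Prime] {H : Type u} [Group H] [Finite H] {A M C : Subgroup H} {W : Type v}
  [AddCommGroup W] [Module (ZMod p) W] [Finite W] {ρ : C →* (W ≃ₗ[ZMod p] W)}

theorem s_struct (h : BSit p e A M C ρ) (hab : ¬ ∀ x ∈ M, ∀ y ∈ M, x * y * x⁻¹ * y⁻¹ ∈ A) :
    ∃ (T : Type) (_ : Group T) (_ : Finite T) (t : ℕ) (L : Fin t → Subgroup H),
      IsSimpleGroup T ∧ (∃ x y : T, x * y ≠ y * x) ∧ ¬ p ∣ Nat.card T ∧ 1 ≤ t ∧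
      (∀ i, L i ≤ M) ∧ (∀ i j, i ≠ j → ∀ x ∈ L i, ∀ y ∈ L j, x * y = y * x) ∧
      (∀ i, commutator (L i) = ⊤) ∧
      (∀ i, ∃ π : L i →* T, Function.Surjective π ∧ π.ker ≤ center (L i)) ∧
      (∀ i, ∀ w : W, (∀ x : C, (x : H) ∈ L i → ρ x w = w) → w = 0) ∧
      (t = 1 → ∃ φ : M →* T, Function.Surjective φ ∧ ∀ x : M, φ x = 1 ↔ (x : H) ∈ A) ∧
      (Perm2 → ∀ κ, UBk T κ → ∀ N : Subgroup H, N.IsSubnormal → N ≤ C →
        kc N ≤ (p ^ e - 1) * κ ^ t * 2 ^ (t - 1)) := by
  have hA := h.nA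
  have hM := h.nM
  set q : H →* H ⧸ A := QuotientGroup.mk' A with hq
  have hqs : Function.Surjective q := QuotientGroup.mk'_surjective A
  have hqk : q.ker = A := QuotientGroup.ker_mk' A
  have hq1 : ∀ x, q x = 1 ↔ x ∈ A := fun x => by rw [← MonoidHom.mem_ker, hqk]
  set Mb : Subgroup (H ⧸ A) := M.map q with hMb
  have hMbn : Mb.Normal := hM.map q hqs
  have hcm : Mb.comap q = M := by
    rw [hMb, comap_map_eq, hqk]
    exact sup_eq_left.2 h.lt.le
  have hMb0 : Mb ≠ ⊥ := by
    intro h0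
    have h1 : M ≤ A := by
      intro x hx
      have h2 : q x ∈ Mb := ⟨x, hx, rfl⟩
      rw [h0, mem_bot] at h2
      exact (hq1 x).1 h2
    exact absurd h1 (not_le_of_gt h.lt)
  obtain ⟨T0, t, -, hT0, ht, ⟨e0⟩⟩ := Lib.MinNormal.exists_mulEquiv_pi Mb hMb0 (by
    intro S hS hSM
    have h1 : A ≤ S.comap q := by
      intro a ha
      show q a ∈ S
      rw [(hq1 a).2 ha]
      exact S.one_mem
    rcases h.chief (S.comap q) (hS.comap q) h1 ((comap_mono hSM).trans hcm.le) with h2 | h2
    · left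
      rw [eq_bot_iff]
      intro y hy
      obtain ⟨x, rfl⟩ := hqs y
      have h3 : x ∈ S.comap q := hy
      rw [h2] at h3
      exact (hq1 x).2 h3
    · right
      rw [hMb, ← h2, map_comap_eq_self_of_surjective hqs])
  obtain ⟨T, iT, ⟨f⟩⟩ := Lib.MinNormal.exists_type_zero_model T0
  have hTf : Finite T := Finite.of_equiv _ f.symm.toEquiv
  have hTs : IsSimpleGroup T := f.isSimpleGroup
  let e1 : Mb ≃* (Fin t → T) := e0.trans (MulEquiv.piCongrRight fun _ => f.symm)
  have hTn : ∃ x y : T, x * y ≠ y * x := by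
    by_contra hcon
    push Not at hcon
    apply hab
    intro x hx y hy
    have h1 : (⟨q x, x, hx, rfl⟩ : Mb) * ⟨q y, y, hy, rfl⟩ = ⟨q y, y, hy, rfl⟩ * ⟨q x, x, hx, rfl⟩ := by
      apply e1.injective
      rw [map_mul, map_mul]
      funext i
      exact hcon _ _
    have h2 : q x * q y = q y * q x := congrArg Subtype.val h1
    rw [← hq1, map_mul, map_mul, map_mul, map_inv, map_inv, h2, mul_inv_cancel_right, mul_inv_cancel]
  have hRM : ∀ i, R q Mb e1 i ≤ M := fun i => (R_le q Mb e1 i).trans hcm.le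
  have hcR : ∀ a ∈ q.ker, ∀ k, ∀ x ∈ R q Mb e1 k, a * x = x * a := fun a ha k x hx =>
    h.com a ((hq1 a).1 ha) x (hRM k hx)
  have hi : ∀ i, ∀ t : T, ∃ x ∈ L q Mb e1 i, q x = io Mb e1 i t := by
    intro i s
    have h1 : io Mb e1 i s ∈ (L q Mb e1 i).map q := by
      rw [map_L q Mb e1 hTn hqs]
      exact ⟨s, rfl⟩
    exact h1
  have hLM : ∀ i, L q Mb e1 i ≤ M := fun i => (L_le_R q Mb e1 i).trans (hRM i)
  have hmM : ∀ m ∈ M, q m ∈ Mb := fun m hm => ⟨m, hm, rfl⟩
  refine ⟨T, iT, hTf, t, L q Mb e1, hTs, hTn, ?_, ht, hLM, fun i j hij => L_comm q Mb e1 hij hcR,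
    fun i => L_perfect q Mb e1 hTn hqs i fun a ha => hcR a ha i, ?_, ?_, ?_, ?_⟩
  · -- order
    intro hp
    apply h.cop
    have h1 : Nat.card T ∣ Nat.card (H ⧸ A) := by
      rw [Nat.card_congr (MonoidHom.ofInjective (io_injective Mb e1 ⟨0, ht⟩)).toEquiv]
      exact card_subgroup_dvd_card _
    exact hp.trans (h1.trans (card_quotient_dvd_card A))
  · -- the projection
    intro i
    let ε : T ≃* F Mb e1 i := MonoidHom.ofInjective (io_injective Mb e1 i)
    let g : L q Mb e1 i →* F Mb e1 i := (q.comp (L q Mb e1 i).subtype).codRestrict _ fun x =>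
      L_le_R q Mb e1 i x.2
    refine ⟨ε.symm.toMonoidHom.comp g, ?_, ?_⟩
    · intro s
      obtain ⟨x, hx, hxs⟩ := hi i s
      refine ⟨⟨x, hx⟩, ?_⟩
      show ε.symm (g ⟨x, hx⟩) = s
      rw [MulEquiv.symm_apply_eq]
      exact Subtype.ext hxs
    · intro x hx
      have h1 : ε.symm (g x) = 1 := hx
      rw [MulEquiv.symm_apply_eq, map_one] at h1
      have h2 : q x = 1 := congrArg Subtype.val h1
      rw [mem_center_iff]
      intro y
      apply Subtype.ext
      exact (hcR x h2 i y (L_le_R q Mb e1 i y.2)).symm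
  · -- no fixed vectors
    intro i
    let U : Submodule (ZMod p) W :=
      { carrier := {w | ∀ x : C, (x : H) ∈ L q Mb e1 i → ρ x w = w}
        add_mem' := fun {a b} ha hb x hx => by rw [map_add, ha x hx, hb x hx]
        zero_mem' := fun x _ => map_zero _
        smul_mem' := fun c a ha x hx => by rw [map_smul, ha x hx] }
    rcases h.irr U (fun m hm u hu x hx => by
      have h1 : ((m⁻¹ * x * m : C) : H) ∈ L q Mb e1 i := by
        have h2 := L_normal q Mb e1 (n := (m : H)⁻¹) (by rw [map_inv]; exact inv_mem (hmM _ hm)) hx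
        rw [inv_inv] at h2
        exact h2
      have h2 : ρ m (ρ (m⁻¹ * x * m) u) = ρ m u := by rw [hu _ h1]
      have h3 : ∀ z : C, ρ m (ρ z u) = ρ (m * z) u := fun z => by rw [map_mul]; rfl
      have h4 : m * (m⁻¹ * x * m) = x * m := by group
      rw [h3, h4, map_mul] at h2
      exact h2) with hU | hU
    · intro w hw
      have h1 : w ∈ U := hw
      rwa [hU, Submodule.mem_bot] at h1
    · exfalso
      have h1 : ∀ x ∈ L q Mb e1 i, x = 1 := by
        intro x hx
        have h2 : (⟨x, h.le (hLM i hx)⟩ : C) = 1 := by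
          apply h.inj
          rw [map_one]
          ext w
          have h3 : w ∈ U := by rw [hU]; exact Submodule.mem_top
          exact h3 _ hx
        exact congrArg Subtype.val h2
      obtain ⟨s, hs⟩ := exists_ne (1 : T)
      obtain ⟨x, hx, hxs⟩ := hi i s
      rw [h1 x hx, map_one] at hxs
      exact hs (io_injective Mb e1 i (hxs.symm.trans (map_one _).symm))
  · -- one factor
    intro h1
    subst h1
    let qM : M →* Mb := (q.comp M.subtype).codRestrict _ fun x => hmM x x.2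
    let φ : M →* T := (Pi.evalMonoidHom (fun _ : Fin 1 => T) 0).comp (e1.toMonoidHom.comp qM)
    refine ⟨φ, ?_, ?_⟩
    · intro s
      obtain ⟨⟨y, x, hx, hxy⟩, hy⟩ := e1.surjective fun _ => s
      refine ⟨⟨x, hx⟩, ?_⟩
      show e1 (qM ⟨x, hx⟩) 0 = s
      have h2 : qM ⟨x, hx⟩ = ⟨y, x, hx, hxy⟩ := Subtype.ext hxy
      rw [h2, hy]
    · intro x
      rw [← hq1]
      constructor
      · intro h2
        have h3 : e1 (qM x) = 1 := by
          funext j
          rw [Subsingleton.elim j 0]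
          exact h2
        rw [e1.map_eq_one_iff] at h3
        exact congrArg Subtype.val h3
      · intro h2
        have h3 : qM x = 1 := Subtype.ext h2
        show e1 (qM x) 0 = 1
        rw [h3, map_one]
        rfl
  · -- the class number bound
    intro hP2 κ hκ N hN hNC
    have hT' : ¬ IsMulCommutative T := by
      rintro ⟨⟨h1⟩⟩
      obtain ⟨x, y, hxy⟩ := hTn
      exact hxy (h1 x y)
    let P : H →* Equiv.Perm (Fin t) := (perm Mb e1 hT').comp q
    let r : P.ker →* (perm Mb e1 hT').ker := (q.comp P.ker.subtype).codRestrict _ fun x => x.2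
    let ε : ∀ i, T ≃* F Mb e1 i := fun i => MonoidHom.ofInjective (io_injective Mb e1 i)
    let g : Fin t → P.ker →* MulAut T := fun i =>
      (MulAut.congr (ε i).symm).toMonoidHom.comp ((fac Mb e1 hT' i).comp r)
    have hg : ∀ i (x : P.ker) (s : T), io Mb e1 i (g i x s) = q x * io Mb e1 i s * (q x)⁻¹ := by
      intro i x s
      have h1 : ε i (g i x s) = fac Mb e1 hT' i (r x) (ε i s) := by
        show ε i ((ε i).symm (fac Mb e1 hT' i (r x) (ε i s))) = _
        rw [(ε i).apply_symm_apply]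
      exact congrArg Subtype.val h1
    refine bound hTn hκ hP2 P g ?_ hN ?_
    · rintro i _ ⟨s, rfl⟩
      obtain ⟨x, -, hxs⟩ := hi i s
      have hx : x ∈ P.ker := by
        show perm Mb e1 hT' (q x) = 1
        rw [hxs]
        exact mem_ker_of_mem Mb e1 hT' i s
      refine ⟨⟨x, hx⟩, ?_⟩
      ext s'
      apply io_injective Mb e1 i
      rw [hg]
      show q x * io Mb e1 i s' * (q x)⁻¹ = _
      rw [hxs, MulAut.conj_apply, map_mul, map_mul, map_inv]
    · intro K hK
      refine card_le h (fun x : K => ((x : P.ker) : H))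
        (Subtype.coe_injective.comp Subtype.coe_injective) (fun x => hNC (hK x x.2).1) ?_
      intro x
      refine comm_M h hab (hNC (hK x x.2).1) ?_
      intro m hm
      have h1 := mem_centralizer_of Mb e1 (q x) (fun i s => by
        have h2 := hg i x s
        rw [(hK x x.2).2 i, MulAut.one_apply] at h2
        rw [eq_comm, mul_inv_eq_iff_eq_mul] at h2
        exact h2) (q m) (hmM m hm)
      rw [← hq1, map_mul, map_mul, map_mul, map_inv, map_inv, h1, mul_inv_cancel_right, mul_inv_cancel]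

end Main

end Cfsg.Agent.H221.KGLStruct
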