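import Mathlib
import Cfsg.Prelude.Def_LocalEven
import Cfsg.Agent.Lib.Cores
import Cfsg.Agent.Lib.SylowNormalInf
import Cfsg.Agent.S2923
import Cfsg.Agent.S0542
import Cfsg.Agent.SignalizersComponents.CompBasic
import Cfsg.Agent.Characters.CNBasic

/-!
# Kieler's lemma

* `norm`: the relative norm `a ↦ ∏_{q ∈ D/P} q a q⁻¹` into a normal commutative subgroup `A`;
* `kieler_normal`: for `H` of characteristic `p`, `T` Sylow, `L` normal in `H`, an element of `L`
  centralizes `Ω₁Z(T)` iff it centralizes `Ω₁Z(T ∩ L)`;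
* `kieler`: the same for `L` subnormal.
-/

set_option autoImplicit false

namespace Cfsg.Agent.H221.Kieler

open Cfsg Subgroup
open Cfsg.Agent.Lib.Cores

section Norm

open scoped IsMulCommutative

variable {G : Type*} [Group G] [Finite G]
variable (A : Subgroup G) [A.Normal] [IsMulCommutative A] (D P : Subgroup G)

/-- The relative norm (product over coset representatives of `P` in `D`). -/
noncomputable def norm (a : A) : A :=
  letI : Fintype (↥D ⧸ P.subgroupOf D) := Fintype.ofFinite (↥D ⧸ P.subgroupOf D)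
  ∏ q : ↥D ⧸ P.subgroupOf D, MulAut.conjNormal ((q.out : D) : G) a

variable {A D P}

omit [Finite G] [IsMulCommutative A] in
/-- The conjugate of a `P`-fixed element depends on the coset only. -/
theorem conjNormal_eq_of_mk_eq {a : A} (ha : ∀ x ∈ P, x * (a : G) * x⁻¹ = a) {c d : D}
    (h : (QuotientGroup.mk c : ↥D ⧸ P.subgroupOf D) = QuotientGroup.mk d) :
    MulAut.conjNormal (c : G) a = MulAut.conjNormal (d : G) a := by
  have h0 : (c⁻¹ * d : D) ∈ P.subgroupOf D := QuotientGroup.eq.1 h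
  have h1 : ((c : G)⁻¹ * (d : G)) ∈ P := h0
  apply Subtype.ext
  rw [MulAut.conjNormal_apply, MulAut.conjNormal_apply]
  have h2 := ha _ h1
  calc (c : G) * a * (c : G)⁻¹ = c * ((c : G)⁻¹ * d * a * ((c : G)⁻¹ * d)⁻¹) * (c : G)⁻¹ := by rw [h2]
    _ = d * a * (d : G)⁻¹ := by group

theorem prod_eq_norm {a : A} (ha : ∀ x ∈ P, x * (a : G) * x⁻¹ = a)
    [Fintype (↥D ⧸ P.subgroupOf D)] (r : ↥D ⧸ P.subgroupOf D → D)
    (hr : Function.Injective fun q => (QuotientGroup.mk (r q) : ↥D ⧸ P.subgroupOf D)) :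
    ∏ q : ↥D ⧸ P.subgroupOf D, MulAut.conjNormal ((r q : D) : G) a = norm A D P a := by
  have hb := Finite.injective_iff_bijective.1 hr
  rw [norm]
  have h1 := Fintype.prod_bijective (fun q => (QuotientGroup.mk (r q) : ↥D ⧸ P.subgroupOf D)) hb
    (fun q => MulAut.conjNormal ((r q : D) : G) a)
    (fun q => MulAut.conjNormal ((q.out : D) : G) a) (fun q => by
      apply conjNormal_eq_of_mk_eq ha
      rw [QuotientGroup.out_eq'])
  convert h1

theorem conj_norm {a : A} (ha : ∀ x ∈ P, x * (a : G) * x⁻¹ = a) {c : G} (hc : c ∈ D) :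
    c * (norm A D P a : G) * c⁻¹ = norm A D P a := by
  classical
  let _ := Fintype.ofFinite (↥D ⧸ P.subgroupOf D)
  have h1 := prod_eq_norm (D := D) ha (fun q => (⟨c, hc⟩ : D) * q.out) (by
    intro q q' h
    have h2 : ((⟨c, hc⟩ * q.out : D) : ↥D ⧸ P.subgroupOf D) = ((⟨c, hc⟩ * q'.out : D)) := h
    rw [QuotientGroup.eq] at h2
    have h3 : (⟨c, hc⟩ * q.out : D)⁻¹ * (⟨c, hc⟩ * q'.out : D) = (q.out)⁻¹ * q'.out := by group
    rw [h3, ← QuotientGroup.eq, QuotientGroup.out_eq', QuotientGroup.out_eq'] at h2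
    exact h2)
  rw [← MulAut.conjNormal_apply]
  conv_rhs => rw [← h1]
  congr 1
  rw [norm, map_prod]
  refine Finset.prod_congr rfl fun q _ => ?_
  rw [Subgroup.coe_mul, map_mul]
  rfl

theorem norm_of_fixed {a : A} (ha : ∀ x ∈ D, x * (a : G) * x⁻¹ = a) :
    norm A D P a = a ^ P.relIndex D := by
  classical
  let _ := Fintype.ofFinite (↥D ⧸ P.subgroupOf D)
  rw [norm]
  have h1 : ∀ q : ↥D ⧸ P.subgroupOf D, MulAut.conjNormal ((q.out : D) : G) a = a := by
    intro q
    apply Subtype.ext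
    rw [MulAut.conjNormal_apply]
    exact ha _ q.out.2
  simp only [h1]
  rw [Finset.prod_const, Finset.card_univ, ← Nat.card_eq_fintype_card]
  rfl

theorem norm_mul (a b : A) : norm A D P (a * b) = norm A D P a * norm A D P b := by
  classical
  rw [norm, norm, norm]
  simp only [map_mul]
  exact Finset.prod_mul_distrib

theorem norm_one : norm A D P 1 = 1 := by
  rw [norm]
  simp

theorem norm_pow (a : A) (n : ℕ) : norm A D P (a ^ n) = norm A D P a ^ n := by
  induction n with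
  | zero => rw [pow_zero, pow_zero, norm_one]
  | succ n ih => rw [pow_succ, norm_mul, ih, pow_succ]

/-- The norm commutes with conjugation by elements normalizing `D` and `P`. -/
theorem norm_conj {a : A} (ha : ∀ x ∈ P, x * (a : G) * x⁻¹ = a) {t : G}
    (hD : ∀ x, x ∈ D ↔ t * x * t⁻¹ ∈ D) (hP : ∀ x, x ∈ P ↔ t * x * t⁻¹ ∈ P) :
    MulAut.conjNormal t (norm A D P a) = norm A D P (MulAut.conjNormal t a) := by
  classical
  let _ := Fintype.ofFinite (↥D ⧸ P.subgroupOf D)
  have ha' : ∀ x ∈ P, x * ((MulAut.conjNormal t a : A) : G) * x⁻¹ = MulAut.conjNormal t a := by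
    intro x hx
    rw [MulAut.conjNormal_apply]
    have h1 : t⁻¹ * x * t ∈ P := by
      rw [hP]
      have : t * (t⁻¹ * x * t) * t⁻¹ = x := by group
      rwa [this]
    have h2 := ha _ h1
    calc x * (t * a * t⁻¹) * x⁻¹ = t * ((t⁻¹ * x * t) * a * (t⁻¹ * x * t)⁻¹) * t⁻¹ := by group
      _ = t * a * t⁻¹ := by rw [h2]
  have h1 := prod_eq_norm (D := D) ha'
    (fun q => (⟨t * (q.out : D) * t⁻¹, (hD _).1 q.out.2⟩ : D)) (by
    intro q q' h
    have h2 : ((⟨t * (q.out : D) * t⁻¹, (hD _).1 q.out.2⟩ : D) : ↥D ⧸ P.subgroupOf D) =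
        ((⟨t * (q'.out : D) * t⁻¹, (hD _).1 q'.out.2⟩ : D)) := h
    rw [QuotientGroup.eq] at h2
    have h3 : (t * (q.out : D) * t⁻¹)⁻¹ * (t * (q'.out : D) * t⁻¹) ∈ P := h2
    have h4 : ((q.out : D) : G)⁻¹ * (q'.out : D) ∈ P := by
      rw [hP]
      have h5 : t * (((q.out : D) : G)⁻¹ * (q'.out : D)) * t⁻¹ =
        (t * (q.out : D) * t⁻¹)⁻¹ * (t * (q'.out : D) * t⁻¹) := by group
      rwa [h5]
    have h6 : (q.out : D)⁻¹ * (q'.out : D) ∈ P.subgroupOf D := h4
    rw [← QuotientGroup.eq, QuotientGroup.out_eq', QuotientGroup.out_eq'] at h6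
    exact h6)
  rw [← h1]
  conv_lhs => rw [norm, map_prod]
  refine Finset.prod_congr rfl fun q _ => ?_
  apply Subtype.ext
  simp only [MulAut.conjNormal_apply]
  group

/-- The norm of `a` is `a ^ n` times an element of `B`, for a subgroup `B` containing all `[c, a]`. -/
theorem norm_mem {a : A} {B : Subgroup G} (hB : ∀ c ∈ D, c * (a : G) * c⁻¹ * (a : G)⁻¹ ∈ B) :
    (norm A D P a : G) * ((a : G) ^ P.relIndex D)⁻¹ ∈ B := by
  classical
  let _ := Fintype.ofFinite (↥D ⧸ P.subgroupOf D)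
  have h1 : norm A D P a * (a ^ P.relIndex D)⁻¹ =
      ∏ q : ↥D ⧸ P.subgroupOf D, (MulAut.conjNormal ((q.out : D) : G) a * a⁻¹) := by
    rw [Finset.prod_mul_distrib, norm]
    congr 1
    rw [Finset.prod_const, Finset.card_univ, ← Nat.card_eq_fintype_card, inv_pow]
    rfl
  have h2 : ((norm A D P a * (a ^ P.relIndex D)⁻¹ : A)) ∈ B.subgroupOf A := by
    rw [h1]
    refine Subgroup.prod_mem _ fun q _ => ?_
    change ((MulAut.conjNormal ((q.out : D) : G) a * a⁻¹ : A) : G) ∈ B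
    rw [Subgroup.coe_mul, MulAut.conjNormal_apply]
    exact hB _ q.out.2
  exact h2

end Norm

section Normal

variable {H : Type*} [Group H] {p : ℕ}

/-- `z ∈ Ω₁Z(P)`. -/
def IsOZ (p : ℕ) (P : Subgroup H) (z : H) : Prop :=
  z ∈ P ∧ (∀ y ∈ P, y * z = z * y) ∧ z ^ p = 1

/-- `Ω₁Z(P)` as a subgroup. -/
def oz (p : ℕ) (P : Subgroup H) : Subgroup H where
  carrier := {z | IsOZ p P z}
  one_mem' := ⟨one_mem _, fun y _ => by rw [mul_one, one_mul], one_pow _⟩
  mul_mem' := by
    rintro a b ⟨ha, hac, hap⟩ ⟨hb, hbc, hbp⟩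
    refine ⟨mul_mem ha hb, fun y hy => ?_, ?_⟩
    · rw [← mul_assoc, hac y hy, mul_assoc, hbc y hy, mul_assoc]
    · have hab : Commute a b := hbc a ha
      rw [hab.mul_pow, hap, hbp, one_mul]
  inv_mem' := by
    rintro a ⟨ha, hac, hap⟩
    refine ⟨inv_mem ha, fun y hy => ?_, by rw [inv_pow, hap, inv_one]⟩
    have h : Commute y a := hac y hy
    exact h.inv_right

theorem mem_oz {P : Subgroup H} {z : H} : z ∈ oz p P ↔ IsOZ p P z := Iff.rfl

theorem omegaOne_eq_oz (P : Subgroup H) :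
    omegaOne p (P ⊓ centralizer (P : Set H)) = oz p P := by
  apply le_antisymm
  · rw [omegaOne, closure_le]
    rintro x ⟨⟨h1, h2⟩, h3⟩
    exact ⟨h1, fun y hy => mem_centralizer_iff.1 h2 y hy, h3⟩
  · rintro x ⟨h1, h2, h3⟩
    exact subset_closure ⟨⟨h1, mem_centralizer_iff.2 h2⟩, h3⟩

theorem mem_of_pow_coprime {K : Subgroup H} {z : H} {n : ℕ} (hz : z ^ p = 1) (hn : n.Coprime p)
    (h : z ^ n ∈ K) : z ∈ K := by
  have h1 : n.Coprime (orderOf z) := hn.of_dvd_right (orderOf_dvd_of_pow_eq_one hz)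
  obtain ⟨m, hm⟩ := exists_pow_eq_self_of_coprime h1
  rw [← hm]
  exact K.pow_mem h m

variable [Finite H] [Fact p.Prime]

theorem coprime_relIndex (T : Sylow p H) (L : Subgroup H) [L.Normal] {C : Subgroup H} (hCL : C ≤ L)
    (hPC : (T : Subgroup H) ⊓ L ≤ C) : (((T : Subgroup H) ⊓ L).relIndex C).Coprime p := by
  have h1 := Lib.SylowNormalInf.not_dvd_relIndex T L
  rw [← inf_relIndex_right, ← relIndex_mul_relIndex _ C L hPC hCL] at h1
  rw [Nat.coprime_comm, Nat.Prime.coprime_iff_not_dvd Fact.out]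
  intro h
  exact h1 (h.trans (Dvd.intro _ rfl))

theorem forward (hchar : centralizer (pCore p H : Set H) ≤ pCore p H) (T : Sylow p H)
    (L : Subgroup H) [hLn : L.Normal] {c : H} (hc : c ∈ L)
    (hX : ∀ x, IsOZ p ((T : Subgroup H) ⊓ L) x → x * c = c * x) :
    ∀ z, IsOZ p (T : Subgroup H) z → z * c = c * z := by
  intro z hz
  set O := pCore p H with hO
  have hOn : O.Normal := Lib.Cores.pCore_normal p
  have hOT : O ≤ (T : Subgroup H) := pCore_le_sylow T
  set A := O ⊓ centralizer (O : Set H) with hA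
  have hAcomm : ∀ x ∈ A, ∀ y ∈ A, x * y = y * x := fun x hx y hy =>
    mem_centralizer_iff.1 hy.2 x hx.1
  have hAn : A.Normal := inferInstanceAs (O ⊓ centralizer (O : Set H) : Subgroup H).Normal
  have hAc : IsMulCommutative A := ⟨⟨fun x y => Subtype.ext (hAcomm x x.2 y y.2)⟩⟩
  have hzC : z ∈ centralizer (O : Set H) :=
    mem_centralizer_iff.2 fun y hy => hz.2.1 y (hOT hy)
  have hzA : z ∈ A := ⟨hchar hzC, hzC⟩
  set P := (T : Subgroup H) ⊓ L with hP
  set C := L ⊓ centralizer (oz p P : Set H) with hC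
  have hcC : c ∈ C := ⟨hc, mem_centralizer_iff.2 fun x hx => hX x hx⟩
  have hPC : P ≤ C := le_inf inf_le_right fun y hy => mem_centralizer_iff.2 fun x hx =>
    (hx.2.1 y hy).symm
  have hn : (P.relIndex C).Coprime p := coprime_relIndex T L inf_le_left hPC
  let a : A := ⟨z, hzA⟩
  have haP : ∀ x ∈ P, x * (a : H) * x⁻¹ = a := by
    intro x hx
    change x * z * x⁻¹ = z
    rw [hz.2.1 x hx.1]; group
  set N : H := (norm A C P a : H) with hN
  have hNC : ∀ x ∈ C, x * N * x⁻¹ = N := fun x hx => conj_norm haP hx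
  have hNC' : ∀ x ∈ C, x * N = N * x := fun x hx => by
    have := hNC x hx
    calc x * N = x * N * x⁻¹ * x := by group
      _ = N * x := by rw [this]
  set m : H := N * (z ^ P.relIndex C)⁻¹ with hm
  have hmL : m ∈ L := norm_mem (A := A) (D := C) (P := P) (a := a) (B := L) fun x hx => by
    change x * z * x⁻¹ * z⁻¹ ∈ L
    have h1 : x * z * x⁻¹ * z⁻¹ = x * (z * x⁻¹ * z⁻¹) := by group
    rw [h1]
    exact L.mul_mem hx.1 (hLn.conj_mem _ (L.inv_mem hx.1) z)
  have hNA : N ∈ A := (norm A C P a).2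
  have hmA : m ∈ A := A.mul_mem hNA (A.inv_mem (A.pow_mem hzA _))
  have hNp : N ^ p = 1 := by
    have h1 : a ^ p = 1 := Subtype.ext hz.2.2
    have h2 : norm A C P a ^ p = 1 := by rw [← norm_pow, h1, norm_one]
    exact congrArg Subtype.val h2
  have hmoz : IsOZ p P m := by
    refine ⟨⟨hOT hmA.1, hmL⟩, fun y hy => ?_, ?_⟩
    · have h1 : Commute y N := hNC' y (hPC hy)
      have h2 : Commute y z := hz.2.1 y hy.1
      exact h1.mul_right (h2.pow_right _).inv_right
    · have h1 : Commute N (z ^ P.relIndex C)⁻¹ := hAcomm _ hNA _ (A.inv_mem (A.pow_mem hzA _))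
      rw [hm, h1.mul_pow, hNp, one_mul, inv_pow, ← pow_mul, mul_comm, pow_mul, hz.2.2, one_pow,
        inv_one]
  have h1 : Commute m c := hX m hmoz
  have h2 : Commute N c := (hNC' c hcC).symm
  have h3 : z ^ P.relIndex C ∈ centralizer ({c} : Set H) := by
    rw [mem_centralizer_singleton_iff]
    have h4 : z ^ P.relIndex C = m⁻¹ * N := by rw [hm]; group
    rw [h4]
    exact (h1.inv_left.mul_left h2).symm.eq.symm
  exact mem_centralizer_singleton_iff.1 (mem_of_pow_coprime hz.2.2 hn h3)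

theorem backward (hchar : centralizer (pCore p H : Set H) ≤ pCore p H) (T : Sylow p H)
    (L : Subgroup H) [hLn : L.Normal] {c : H} (hc : c ∈ L)
    (hZ : ∀ z, IsOZ p (T : Subgroup H) z → z * c = c * z) :
    ∀ x, IsOZ p ((T : Subgroup H) ⊓ L) x → x * c = c * x := by
  set O := L ⊓ pCore p H with hO
  have hOn : O.Normal := by
    have : (pCore p H).Normal := Lib.Cores.pCore_normal p
    exact inferInstanceAs (L ⊓ pCore p H : Subgroup H).Normal
  have hOT : O ≤ (T : Subgroup H) := inf_le_right.trans (pCore_le_sylow T)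
  set A := O ⊓ centralizer (O : Set H) with hA
  have hAcomm : ∀ x ∈ A, ∀ y ∈ A, x * y = y * x := fun x hx y hy =>
    mem_centralizer_iff.1 hy.2 x hx.1
  have hAn : A.Normal := inferInstanceAs (O ⊓ centralizer (O : Set H) : Subgroup H).Normal
  have hAc : IsMulCommutative A := ⟨⟨fun x y => Subtype.ext (hAcomm x x.2 y y.2)⟩⟩
  set P := (T : Subgroup H) ⊓ L with hP
  have hOP : O ≤ P := le_inf hOT inf_le_left
  set D := L ⊓ centralizer (oz p (T : Subgroup H) : Set H) with hD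
  have hcD : c ∈ D := ⟨hc, mem_centralizer_iff.2 fun x hx => hZ x hx⟩
  have hPD : P ≤ D := le_inf inf_le_right fun y hy => mem_centralizer_iff.2 fun x hx =>
    (hx.2.1 y hy.1).symm
  have hn : (P.relIndex D).Coprime p := coprime_relIndex T L inf_le_left hPD
  -- `Ω₁Z(P) ≤ A`
  have hLchar : L ⊓ centralizer (O : Set H) ≤ O := by
    have h1 := S2923.result hchar L hLn.isSubnormal
    have h2 := SignalizersComponents.CompBasic.map_subtype_pCore_of_subnormal p hLn.isSubnormal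
    intro x hx
    have h3 : (⟨x, hx.1⟩ : L) ∈ centralizer (pCore p ↥L : Set ↥L) := by
      rw [mem_centralizer_iff]
      intro y hy
      apply Subtype.ext
      refine mem_centralizer_iff.1 hx.2 (y : H) ?_
      change (y : H) ∈ O
      rw [hO, ← h2]
      exact mem_map_of_mem _ hy
    have h4 := mem_map_of_mem L.subtype (h1 h3)
    rw [h2] at h4
    exact h4
  have hXA : oz p P ≤ A := by
    intro x hx
    have h1 : x ∈ centralizer (O : Set H) := mem_centralizer_iff.2 fun y hy => hx.2.1 y (hOP hy)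
    exact ⟨hLchar ⟨hx.1.2, h1⟩, h1⟩
  have hfix : ∀ a : A, (a : H) ∈ oz p P → ∀ x ∈ P, x * (a : H) * x⁻¹ = a := by
    intro a ha x hx
    rw [ha.2.1 x hx]; group
  -- conjugation by elements of `T`
  have hTD : ∀ t ∈ (T : Subgroup H), ∀ x, x ∈ D → t * x * t⁻¹ ∈ D := by
    intro t ht x hx
    refine ⟨hLn.conj_mem x hx.1 t, mem_centralizer_iff.2 fun z hz => ?_⟩
    have hz' : IsOZ p (T : Subgroup H) z := hz
    have h1 : Commute t z := hz'.2.1 t ht
    have h2 : Commute z x := mem_centralizer_iff.1 hx.2 z hz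
    exact ((h1.symm.mul_right h2).mul_right h1.symm.inv_right).eq
  have hTP : ∀ t ∈ (T : Subgroup H), ∀ x, x ∈ P → t * x * t⁻¹ ∈ P := by
    intro t ht x hx
    exact ⟨(T : Subgroup H).mul_mem ((T : Subgroup H).mul_mem ht hx.1) ((T : Subgroup H).inv_mem ht),
      hLn.conj_mem x hx.2 t⟩
  have hiff : ∀ (K : Subgroup H), (∀ t ∈ (T : Subgroup H), ∀ x, x ∈ K → t * x * t⁻¹ ∈ K) →
      ∀ t ∈ (T : Subgroup H), ∀ x, x ∈ K ↔ t * x * t⁻¹ ∈ K := by
    intro K hK t ht x
    refine ⟨hK t ht x, fun h => ?_⟩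
    have h1 := hK t⁻¹ ((T : Subgroup H).inv_mem ht) _ h
    have h2 : t⁻¹ * (t * x * t⁻¹) * t⁻¹⁻¹ = x := by group
    rwa [h2] at h1
  have hTX : ∀ t ∈ (T : Subgroup H), ∀ x, x ∈ oz p P → t * x * t⁻¹ ∈ oz p P := by
    intro t ht x hx
    refine ⟨hTP t ht x hx.1, fun y hy => ?_, ?_⟩
    · have h1 : t⁻¹ * y * t ∈ P := by
        have := hTP t⁻¹ ((T : Subgroup H).inv_mem ht) y hy
        rwa [inv_inv] at this
      have h2 := hx.2.1 _ h1
      calc y * (t * x * t⁻¹) = t * ((t⁻¹ * y * t) * x) * t⁻¹ := by group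
        _ = t * x * t⁻¹ * y := by rw [h2]; group
    · rw [conj_pow, hx.2.2]; group
  -- the kernel of the norm on `Ω₁Z(P)`
  let K : Subgroup H :=
    { carrier := {x | ∃ a : A, (a : H) = x ∧ x ∈ oz p P ∧ norm A D P a = 1}
      one_mem' := ⟨1, rfl, one_mem _, norm_one⟩
      mul_mem' := by
        rintro _ _ ⟨a, rfl, ha, hna⟩ ⟨b, rfl, hb, hnb⟩
        exact ⟨a * b, rfl, mul_mem ha hb, by rw [norm_mul, hna, hnb, one_mul]⟩
      inv_mem' := by
        rintro _ ⟨a, rfl, ha, hna⟩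
        refine ⟨a⁻¹, rfl, inv_mem ha, ?_⟩
        have h1 : norm A D P (a * a⁻¹) = 1 := by rw [mul_inv_cancel, norm_one]
        rw [norm_mul, hna, one_mul] at h1
        exact h1 }
  have hKbot : K = ⊥ := by
    by_contra hne
    have hKp : IsPGroup p K := by
      rintro ⟨x, a, rfl, ha, -⟩
      refine ⟨1, Subtype.ext ?_⟩
      rw [pow_one]
      exact ha.2.2
    obtain ⟨w, hw, hw1, hwT⟩ := Characters.CNBasic.exists_mem_center_of_normal (T : Subgroup H)
      T.isPGroup' K hKp hne (by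
        rintro t ht _ ⟨a, rfl, ha, hna⟩
        refine ⟨MulAut.conjNormal t a, MulAut.conjNormal_apply _ _, hTX t ht _ ha, ?_⟩
        rw [← norm_conj (hfix a ha) (hiff D hTD t ht) (hiff P hTP t ht), hna, map_one])
    obtain ⟨a, rfl, ha, hna⟩ := hw
    have haZ : IsOZ p (T : Subgroup H) (a : H) := ⟨ha.1.1, hwT, ha.2.2⟩
    have haD : ∀ x ∈ D, x * (a : H) * x⁻¹ = a := by
      intro x hx
      have h1 := mem_centralizer_iff.1 hx.2 (a : H) haZ
      rw [← h1]; group
    rw [norm_of_fixed haD] at hna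
    have h2 : (a : H) ^ P.relIndex D = 1 := congrArg Subtype.val hna
    have h3 : (a : H) ∈ (⊥ : Subgroup H) := mem_of_pow_coprime ha.2.2 hn (mem_bot.2 h2)
    exact hw1 (mem_bot.1 h3)
  -- conclusion
  intro x hx
  have hxA : x ∈ A := hXA hx
  let a : A := ⟨x, hxA⟩
  have haP := hfix a hx
  set b : A := norm A D P a with hb
  have hbD : ∀ y ∈ D, y * (b : H) * y⁻¹ = b := fun y hy => conj_norm haP hy
  have hbp : (b : H) ^ p = 1 := by
    have h1 : a ^ p = 1 := Subtype.ext hx.2.2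
    have h2 : norm A D P a ^ p = 1 := by rw [← norm_pow, h1, norm_one]
    exact congrArg Subtype.val h2
  have hbX : (b : H) ∈ oz p P := by
    refine ⟨⟨hOT b.2.1, b.2.1.1⟩, fun y hy => ?_, hbp⟩
    have h1 := hbD y (hPD hy)
    calc y * (b : H) = y * b * y⁻¹ * y := by group
      _ = b * y := by rw [h1]
  have hNb : norm A D P b = b ^ P.relIndex D := norm_of_fixed hbD
  -- `a ^ n` and `b` have the same norm
  have h1 : norm A D P (a ^ P.relIndex D * b⁻¹) = 1 := by
    have h2 : norm A D P (b * b⁻¹) = 1 := by rw [mul_inv_cancel, norm_one]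
    rw [norm_mul] at h2
    rw [norm_mul, norm_pow, ← hb, ← hNb]
    exact h2
  have h2 : ((a ^ P.relIndex D * b⁻¹ : A) : H) ∈ K :=
    ⟨_, rfl, mul_mem (pow_mem hx _) (inv_mem hbX), h1⟩
  rw [hKbot, mem_bot] at h2
  have h3 : x ^ P.relIndex D = b := by
    have h4 : x ^ P.relIndex D * (b : H)⁻¹ = 1 := h2
    exact mul_inv_eq_one.1 h4
  have h4 : x ^ P.relIndex D ∈ centralizer ({c} : Set H) := by
    rw [mem_centralizer_singleton_iff, h3]
    have h5 := hbD c hcD
    calc (b : H) * c = (c * b * c⁻¹) * c := by rw [h5]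
      _ = c * b := by group
  exact mem_centralizer_singleton_iff.1 (mem_of_pow_coprime hx.2.2 hn h4)

end Normal

section Subnormal

variable {H : Type*} [Group H] [Finite H] {p : ℕ} [Fact p.Prime]

/-- Elementwise form of Kieler's lemma. -/
theorem kieler_iff (hchar : centralizer (pCore p H : Set H) ≤ pCore p H) (T : Sylow p H)
    {L : Subgroup H} (hL : L.IsSubnormal) {c : H} (hc : c ∈ L) :
    (∀ z, IsOZ p (T : Subgroup H) z → z * c = c * z) ↔
      ∀ x, IsOZ p ((T : Subgroup H) ⊓ L) x → x * c = c * x := by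
  induction hL with
  | top => rw [inf_top_eq]
  | step L K hLK hKs hN ih =>
    rw [ih (hLK hc)]
    obtain ⟨Q, hQ⟩ := S0542.result p K hKs T
    have hcharK := S2923.result hchar K hKs
    have hmemQ : ∀ x : K, x ∈ (Q : Subgroup K) ↔ (x : H) ∈ (T : Subgroup H) := by
      intro x; rw [hQ]; rfl
    have h1 := forward hcharK Q (L.subgroupOf K) (c := ⟨c, hLK hc⟩) hc
    have h2 := backward hcharK Q (L.subgroupOf K) (c := ⟨c, hLK hc⟩) hc
    have e1 : ∀ x : K, IsOZ p ((Q : Subgroup K)) x ↔ IsOZ p ((T : Subgroup H) ⊓ K) (x : H) := by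
      intro x
      constructor
      · rintro ⟨h3, h4, h5⟩
        refine ⟨⟨(hmemQ x).1 h3, x.2⟩, fun y hy => ?_, by rw [← Subgroup.coe_pow, h5]; rfl⟩
        exact congrArg Subtype.val (h4 ⟨y, hy.2⟩ ((hmemQ _).2 hy.1))
      · rintro ⟨h3, h4, h5⟩
        refine ⟨(hmemQ x).2 h3.1, fun y hy => Subtype.ext (h4 y ⟨(hmemQ y).1 hy, y.2⟩), ?_⟩
        exact Subtype.ext h5
    have e2 : ∀ x : K, IsOZ p ((Q : Subgroup K) ⊓ L.subgroupOf K) x ↔
        IsOZ p ((T : Subgroup H) ⊓ L) (x : H) := by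
      intro x
      constructor
      · rintro ⟨h3, h4, h5⟩
        refine ⟨⟨(hmemQ x).1 h3.1, h3.2⟩, fun y hy => ?_, by rw [← Subgroup.coe_pow, h5]; rfl⟩
        exact congrArg Subtype.val (h4 ⟨y, hLK hy.2⟩ ⟨(hmemQ _).2 hy.1, hy.2⟩)
      · rintro ⟨h3, h4, h5⟩
        refine ⟨⟨(hmemQ x).2 h3.1, h3.2⟩,
          fun y hy => Subtype.ext (h4 y ⟨(hmemQ y).1 hy.1, hy.2⟩), ?_⟩
        exact Subtype.ext h5
    constructor
    · intro h x hx
      have hxK : x ∈ K := hLK hx.1.2
      have h3 := h2 (fun z hz => Subtype.ext (h z ((e1 z).1 hz))) ⟨x, hxK⟩ ((e2 ⟨x, hxK⟩).2 hx)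
      exact congrArg Subtype.val h3
    · intro h z hz
      have hzK : z ∈ K := hz.1.2
      have h3 := h1 (fun x hx => Subtype.ext (h x ((e2 x).1 hx))) ⟨z, hzK⟩ ((e1 ⟨z, hzK⟩).2 hz)
      exact congrArg Subtype.val h3

theorem kieler (hchar : centralizer (pCore p H : Set H) ≤ pCore p H) (T : Sylow p H)
    (L : Subgroup H) (hL : L.IsSubnormal) :
    L ⊓ centralizer ((omegaOne p ((T : Subgroup H) ⊓
      centralizer ((T : Subgroup H) : Set H))) : Set H) =
    L ⊓ centralizer ((omegaOne p (((T : Subgroup H) ⊓ L) ⊓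
      centralizer ((((T : Subgroup H) ⊓ L) : Subgroup H) : Set H))) : Set H) := by
  rw [omegaOne_eq_oz, omegaOne_eq_oz]
  ext c
  rw [mem_inf, mem_inf, mem_centralizer_iff, mem_centralizer_iff]
  constructor
  · rintro ⟨hc, h⟩
    exact ⟨hc, (kieler_iff hchar T hL hc).1 h⟩
  · rintro ⟨hc, h⟩
    exact ⟨hc, (kieler_iff hchar T hL hc).2 h⟩

end Subnormal

end Cfsg.Agent.H221.Kieler
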