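import Mathlib
import Cfsg.Agent.H221.PReduced

/-!
# Structure of the largest p-reduced normal subgroup

For a finite group `L` of characteristic `p`, `Y` its largest `p`-reduced normal subgroup, `T` a Sylow
`p`-subgroup and `T_L = C_T(Y)`: `L = N_L(T_L) C_L(Y)`, `T_L = O_p(N_L(T_L))`, `Y = Ω₁(Z(T_L))`.
-/

set_option autoImplicit false

namespace Cfsg.Agent.H221.PReducedStructure

open Cfsg Subgroup
open Cfsg.Agent.Lib.Cores
open Cfsg.Agent.H221.PReduced

variable {L : Type*} [Group L] {p : ℕ}

/-- If `R C = L`, `C` normal and `D` a subgroup normalized by `R`, then `D C` is normal. -/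
theorem sup_normal_of_sup_eq_top {R C D : Subgroup L} (hC : C.Normal) (hRC : R ⊔ C = ⊤)
    (hD : R ≤ normalizer (D : Set L)) : (D ⊔ C).Normal := by
  rw [← normalizer_eq_top_iff, eq_top_iff, ← hRC]
  refine sup_le ?_ (le_sup_right.trans le_normalizer)
  have hconj : ∀ r ∈ normalizer (D : Set L), ∀ x ∈ D ⊔ C, r * x * r⁻¹ ∈ D ⊔ C := by
    intro r hr x hx
    obtain ⟨d, hd, c, hc, rfl⟩ := mem_sup_of_normal_right.1 hx
    have h1 : r * (d * c) * r⁻¹ = (r * d * r⁻¹) * (r * c * r⁻¹) := by group
    rw [h1]
    exact mul_mem_sup ((mem_normalizer_iff.1 hr d).1 hd) (hC.conj_mem c hc r)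
  intro r hr
  rw [mem_normalizer_iff]
  intro x
  refine ⟨hconj r (hD hr) x, fun h => ?_⟩
  have h1 := hconj r⁻¹ (inv_mem (hD hr)) _ h
  have h2 : r⁻¹ * (r * x * r⁻¹) * r⁻¹⁻¹ = x := by group
  rwa [h2] at h1

/-- Elements of `D C` have a `p`-power power in the normal subgroup `C` if those of `D` do. -/
theorem exists_pow_mem_of_mem_sup {C D : Subgroup L} (hC : C.Normal)
    (hD : ∀ x ∈ D, ∃ k : ℕ, x ^ p ^ k ∈ C) {x : L} (hx : x ∈ D ⊔ C) : ∃ k : ℕ, x ^ p ^ k ∈ C := by
  obtain ⟨d, hd, c, hc, rfl⟩ := mem_sup_of_normal_right.1 hx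
  obtain ⟨k, hk⟩ := hD d hd
  refine ⟨k, ?_⟩
  rw [← QuotientGroup.eq_one_iff, QuotientGroup.mk_pow, QuotientGroup.mk_mul,
    (QuotientGroup.eq_one_iff c).2 hc, mul_one, ← QuotientGroup.mk_pow]
  exact (QuotientGroup.eq_one_iff _).2 hk

/-- If `Y` is `p`-reduced in `L = R C_L(Y)` and `D` is a subgroup normalized by `R` all of whose
elements have a `p`-power power in `C_L(Y)`, then `D ≤ C_L(Y)`. -/
theorem le_centralizer_of_normalized {Y R D : Subgroup L} (hY : IsPReducedNormal p Y)
    (hR : R ⊔ centralizer (Y : Set L) = ⊤) (hD : R ≤ normalizer (D : Set L))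
    (hp : ∀ x ∈ D, ∃ k : ℕ, x ^ p ^ k ∈ centralizer (Y : Set L)) :
    D ≤ centralizer (Y : Set L) := by
  have hYn : Y.Normal := hY.1
  have hC : (centralizer (Y : Set L)).Normal := inferInstance
  exact le_sup_left.trans ((isPReducedNormal_iff.1 hY).2.2 _ (sup_normal_of_sup_eq_top hC hR hD)
    fun x hx => exists_pow_mem_of_mem_sup hC hp hx)

theorem structure_theorem [Finite L] [Fact p.Prime]
    (hchar : centralizer (pCore p L : Set L) ≤ pCore p L) (T : Sylow p L) (Y : Subgroup L)
    (hY : IsPReducedNormal p Y ∧ ∀ V : Subgroup L, IsPReducedNormal p V → V ≤ Y)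
    (TL : Subgroup L) (hTL : TL = (T : Subgroup L) ⊓ centralizer (Y : Set L)) :
    (∀ g : L, ∃ a ∈ normalizer (TL : Set L), ∃ c ∈ centralizer (Y : Set L), g = a * c) ∧
      (pCore p ↥(normalizer (TL : Set L))).map (normalizer (TL : Set L)).subtype = TL ∧
      Y = omegaOne p (TL ⊓ centralizer (TL : Set L)) := by
  have hYn : Y.Normal := hY.1.1
  have hCn : (centralizer (Y : Set L)).Normal := inferInstance
  have hfrat : normalizer (TL : Set L) ⊔ centralizer (Y : Set L) = ⊤ := by
    rw [hTL]
    exact Lib.SylowNormalInf.normalizer_inf_sup_eq_top T (centralizer (Y : Set L))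
  have hTLp : IsPGroup p TL := by
    rw [hTL]
    exact T.isPGroup'.to_le inf_le_left
  have hTLC : TL ≤ centralizer (Y : Set L) := by rw [hTL]; exact inf_le_right
  have hYcomm : Y ≤ centralizer (Y : Set L) := by
    intro y hy
    rw [mem_centralizer_iff]
    intro z hz
    exact commute_of_isPReducedNormal hY.1 hY.1 hz hy
  have hYTL : Y ≤ TL := by
    rw [hTL]
    exact le_inf ((le_pCore_of_isPReducedNormal hY.1).trans (pCore_le_sylow T)) hYcomm
  refine ⟨?_, ?_, ?_⟩
  · intro g
    have hg : g ∈ normalizer (TL : Set L) ⊔ centralizer (Y : Set L) := by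
      rw [hfrat]; exact mem_top g
    obtain ⟨a, ha, c, hc, h⟩ := mem_sup_of_normal_right.1 hg
    exact ⟨a, ha, c, hc, h.symm⟩
  · set R := normalizer (TL : Set L) with hR
    set O := (pCore p ↥R).map R.subtype with hO
    have hOp : IsPGroup p O := (pCore_isPGroup (G := R) p).map _
    have hRO : R ≤ normalizer (O : Set L) := by
      have h1 := Lib.Cores.pCore_normal (G := R) p
      have h2 : (O.subgroupOf R) = pCore p R := by
        rw [hO]
        exact comap_map_eq_self_of_injective R.subtype_injective _
      rw [← h2] at h1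
      exact (normal_subgroupOf_iff_le_normalizer (map_subtype_le _)).1 h1
    have hTLO : TL ≤ O := by
      have hTLR : TL ≤ R := le_normalizer
      have h1 : TL.subgroupOf R ≤ pCore p R := by
        apply le_pCore
        · exact (normal_subgroupOf_iff_le_normalizer hTLR).2 le_rfl
        · exact hTLp.comap_of_injective R.subtype R.subtype_injective
      have h2 := map_mono (f := R.subtype) h1
      rwa [map_subgroupOf_eq_of_le hTLR] at h2
    have hOC : O ≤ centralizer (Y : Set L) := by
      refine le_centralizer_of_normalized hY.1 hfrat hRO fun x hx => ?_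
      obtain ⟨k, hk⟩ := hOp ⟨x, hx⟩
      refine ⟨k, ?_⟩
      have h3 : x ^ p ^ k = 1 := congrArg Subtype.val hk
      rw [h3]
      exact one_mem _
    apply le_antisymm _ hTLO
    have h4 : ¬ p ∣ (T : Subgroup L).relIndex (centralizer (Y : Set L)) :=
      Lib.SylowNormalInf.not_dvd_relIndex T _
    have h5 : TL.relIndex O ∣ (T : Subgroup L).relIndex (centralizer (Y : Set L)) := by
      have h6 : (T : Subgroup L).relIndex (centralizer (Y : Set L)) =
          TL.relIndex (centralizer (Y : Set L)) := by
        rw [hTL, inf_relIndex_right]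
      rw [h6]
      exact ⟨_, (relIndex_mul_relIndex TL O _ hTLO hOC).symm⟩
    obtain ⟨n, hn⟩ := IsPGroup.iff_card.1 hOp
    have h7 : TL.relIndex O ∣ p ^ n := by
      rw [← hn]
      exact ⟨_, (by
        have := Lib.SylowNormalInf.card_mul_relIndex TL O hTLO
        rw [← this, mul_comm])⟩
    have h8 : TL.relIndex O = 1 := by
      obtain ⟨m, hm, h9⟩ := (Nat.dvd_prime_pow Fact.out).1 h7
      rcases Nat.eq_zero_or_pos m with rfl | hpos
      · rw [h9, pow_zero]
      · exact absurd ((dvd_pow_self p hpos.ne').trans (h9 ▸ h5)) h4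
    exact relIndex_eq_one.1 h8
  · set R := normalizer (TL : Set L) with hR
    have hTLR : TL ≤ R := le_normalizer
    have hTR : (T : Subgroup L) ≤ R := by
      intro t ht
      have key : ∀ t ∈ (T : Subgroup L), ∀ x ∈ TL, t * x * t⁻¹ ∈ TL := by
        intro t ht x hx
        rw [hTL] at hx ⊢
        exact ⟨(T : Subgroup L).mul_mem ((T : Subgroup L).mul_mem ht hx.1) ((T : Subgroup L).inv_mem ht), hCn.conj_mem x hx.2 t⟩
      rw [hR, mem_normalizer_iff]
      intro x
      refine ⟨key t ht x, fun h => ?_⟩
      have h1 := key t⁻¹ ((T : Subgroup L).inv_mem ht) _ h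
      have h2 : t⁻¹ * (t * x * t⁻¹) * t⁻¹⁻¹ = x := by group
      rwa [h2] at h1
    set X := omegaOne p (TL ⊓ centralizer (TL : Set L)) with hX
    have hXZ : X ≤ TL ⊓ centralizer (TL : Set L) := by
      rw [hX, omegaOne, closure_le]
      exact fun x hx => hx.1
    have hXTL : X ≤ TL := hXZ.trans inf_le_left
    have hYX : Y ≤ X := by
      intro y hy
      refine subset_closure ⟨⟨hYTL hy, ?_⟩, hY.1.2.1.2 y hy⟩
      change y ∈ centralizer (TL : Set L)
      rw [mem_centralizer_iff]
      intro t ht
      exact (mem_centralizer_iff.1 (hTLC ht) y hy).symm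
    apply le_antisymm hYX
    have hcomm : ∀ x ∈ X, ∀ y ∈ X, x * y = y * x := fun x hx y hy =>
      mem_centralizer_iff.1 (hXZ hy).2 x (hXTL hx)
    have hXe : IsElementaryAbelian p X := by
      rw [hX]
      refine closure_isElementaryAbelian ?_ ?_
      · intro x hx y hy
        exact hcomm x (subset_closure hx) y (subset_closure hy)
      · intro x hx
        exact hx.2
    have hRX : R ≤ normalizer (X : Set L) := by
      have key : ∀ r ∈ R, ∀ x ∈ X, r * x * r⁻¹ ∈ X := by
        intro r hr x hx
        have h1 : X ≤ X.comap (MulAut.conj r).toMonoidHom := by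
          conv_lhs => rw [hX]
          rw [omegaOne, closure_le]
          rintro y ⟨⟨hy1, hy2⟩, hy3⟩
          change r * y * r⁻¹ ∈ X
          refine subset_closure ⟨⟨(mem_normalizer_iff.1 hr y).1 hy1, ?_⟩, ?_⟩
          · change r * y * r⁻¹ ∈ centralizer (TL : Set L)
            rw [mem_centralizer_iff]
            intro t ht
            have h2 : r⁻¹ * t * r ∈ TL := by
              have := (mem_normalizer_iff.1 (inv_mem hr) t).1 ht
              rwa [inv_inv] at this
            have h3 := mem_centralizer_iff.1 hy2 _ h2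
            calc t * (r * y * r⁻¹) = r * ((r⁻¹ * t * r) * y) * r⁻¹ := by group
              _ = r * y * r⁻¹ * t := by rw [h3]; group
          · rw [conj_pow, hy3]; group
        exact h1 hx
      intro r hr
      rw [mem_normalizer_iff]
      intro x
      refine ⟨key r hr x, fun h => ?_⟩
      have h1 := key r⁻¹ (inv_mem hr) _ h
      have h2 : r⁻¹ * (r * x * r⁻¹) * r⁻¹⁻¹ = x := by group
      rwa [h2] at h1
    have hXR : X ≤ R := hXTL.trans hTLR
    have hred : IsPReducedNormal p (X.subgroupOf R) := by
      rw [isPReducedNormal_iff]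
      refine ⟨(normal_subgroupOf_iff_le_normalizer hXR).2 hRX, ?_, ?_⟩
      · rw [PLocal.ThompsonJ.isElementaryAbelian_iff]
        refine ⟨fun a ha b hb => Subtype.ext (hcomm a ha b hb), fun a ha => Subtype.ext ?_⟩
        exact hXe.2 a ha
      · intro D hD hp
        have hDn : D.Normal := hD
        have h1 : D.map R.subtype ≤ centralizer (Y : Set L) := by
          refine le_centralizer_of_normalized hY.1 hfrat ?_ ?_
          · have h2 : ((D.map R.subtype).subgroupOf R) = D :=
              comap_map_eq_self_of_injective R.subtype_injective _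
            have h3 : ((D.map R.subtype).subgroupOf R).Normal := by rw [h2]; exact hD
            exact (normal_subgroupOf_iff_le_normalizer (map_subtype_le _)).1 h3
          · rintro _ ⟨x, hx, rfl⟩
            obtain ⟨k, hk⟩ := hp x hx
            refine ⟨k, ?_⟩
            rw [mem_centralizer_iff]
            intro y hy
            have h4 := mem_centralizer_iff.1 hk ⟨y, hXR (hYX hy)⟩ (show _ ∈ _ from hYX hy)
            exact congrArg Subtype.val h4
        -- Sylow argument in `R`
        have hXn : (X.subgroupOf R).Normal := (normal_subgroupOf_iff_le_normalizer hXR).2 hRX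
        have hCXn : (centralizer ((X.subgroupOf R : Subgroup R) : Set R)).Normal := inferInstance
        have h5 := Lib.SylowNormalInf.le_sup_inf (T.subtype hTR) D
          (centralizer ((X.subgroupOf R : Subgroup R) : Set R)) hp
        refine h5.trans (sup_le le_rfl ?_)
        intro t ht
        have ht1 : (t : L) ∈ (T : Subgroup L) := ht.1
        have ht2 : (t : L) ∈ TL := by
          rw [hTL]
          exact ⟨ht1, h1 (mem_map_of_mem _ ht.2)⟩
        rw [mem_centralizer_iff]
        intro x hx
        apply Subtype.ext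
        have hx' : (x : L) ∈ X := hx
        have h6 := (hXZ hx').2
        exact (mem_centralizer_iff.1 h6 t ht2).symm
    have hcl := normalClosure_isPReducedNormal hchar T R hTR (X.subgroupOf R) hred
    have h7 := hY.2 _ hcl
    rw [map_subgroupOf_eq_of_le hXR] at h7
    exact subset_normalClosure.trans h7

end Cfsg.Agent.H221.PReducedStructure
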