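import Mathlib
import Cfsg.Agent.ClassicalGeometry.AutPSL.Main

/-!
# The root subgroups "centre" and "axis" of `PSL_d(q)` (helper221)

`Cen a` = transvections with centre `a`, `Ax φ` = transvections with axis `ker φ`; `RR (inl v)`, `RR (inr w)` their
images in `PSL`; every automorphism of `PSL_d(q)`, `d ≥ 3`, permutes the subgroups `RR x`.
-/

set_option autoImplicit false
set_option linter.unusedSectionVars false

namespace Cfsg.Agent.H221.PSLRoots

open Matrix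
open Cfsg.Agent.ClassicalGeometry.AutPSL.Root
open Cfsg.Agent.ClassicalGeometry.AutPSL.Auto
open Cfsg.Agent.ClassicalGeometry.AutPSL.Main
open scoped LinearAlgebra.Projectivization

variable {F : Type*} [Field F] {d : ℕ}

local notation "SL" => Matrix.SpecialLinearGroup (Fin d) F
local notation "PSL" => Matrix.ProjectiveSpecialLinearGroup (Fin d) F
local notation "VV" => Fin d → F

theorem tr_zero_right (a : VV) : tr a 0 (zero_dotProduct _) = 1 := by
  apply sl_ext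
  intro x
  rw [tr_mulVec, zero_dotProduct, zero_smul, add_zero, Matrix.SpecialLinearGroup.coe_one, one_mulVec]

theorem tr_zero_left (φ : VV) : tr 0 φ (dotProduct_zero _) = 1 := by
  apply sl_ext
  intro x
  rw [tr_mulVec, smul_zero, add_zero, Matrix.SpecialLinearGroup.coe_one, one_mulVec]

theorem tr_inv (a φ : VV) (h : φ ⬝ᵥ a = 0) :
    (tr a φ h)⁻¹ = tr a (-φ) (by rw [neg_dotProduct, h, neg_zero]) := by
  rw [inv_eq_iff_mul_eq_one, tr_mul_same_center]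
  simp only [add_neg_cancel]
  exact tr_zero_right a

theorem tr_inv' (a φ : VV) (h : φ ⬝ᵥ a = 0) :
    (tr a φ h)⁻¹ = tr (-a) φ (by rw [dotProduct_neg, h, neg_zero]) := by
  rw [inv_eq_iff_mul_eq_one, tr_mul_same_axis]
  simp only [add_neg_cancel]
  exact tr_zero_left φ

/-- transvections with centre `a` -/
def Cen (a : VV) : Subgroup SL where
  carrier := {x | ∃ (φ : VV) (h : φ ⬝ᵥ a = 0), x = tr a φ h}
  mul_mem' := by
    rintro _ _ ⟨φ, h, rfl⟩ ⟨ψ, h', rfl⟩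
    exact ⟨_, _, tr_mul_same_center a φ ψ h h'⟩
  one_mem' := ⟨0, zero_dotProduct _, (tr_zero_right a).symm⟩
  inv_mem' := by
    rintro _ ⟨φ, h, rfl⟩
    exact ⟨_, _, tr_inv a φ h⟩

/-- transvections with axis `φ` -/
def Ax (φ : VV) : Subgroup SL where
  carrier := {x | ∃ (a : VV) (h : φ ⬝ᵥ a = 0), x = tr a φ h}
  mul_mem' := by
    rintro _ _ ⟨a, h, rfl⟩ ⟨b, h', rfl⟩
    exact ⟨_, _, tr_mul_same_axis a b φ h h'⟩
  one_mem' := ⟨0, dotProduct_zero _, (tr_zero_left φ).symm⟩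
  inv_mem' := by
    rintro _ ⟨a, h, rfl⟩
    exact ⟨_, _, tr_inv' a φ h⟩

theorem mem_cen {a : VV} {x : SL} : x ∈ Cen a ↔ ∃ (φ : VV) (h : φ ⬝ᵥ a = 0), x = tr a φ h := Iff.rfl

theorem mem_ax {φ : VV} {x : SL} : x ∈ Ax φ ↔ ∃ (a : VV) (h : φ ⬝ᵥ a = 0), x = tr a φ h := Iff.rfl

theorem cen_smul_le {c : F} (hc : c ≠ 0) (a : VV) : Cen (c • a) ≤ Cen a := by
  rintro _ ⟨φ, h, rfl⟩
  have h1 : φ ⬝ᵥ a = 0 := by
    rw [dotProduct_smul, smul_eq_zero] at h
    exact h.resolve_left hc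
  refine ⟨c • φ, by rw [smul_dotProduct, h1, smul_zero], ?_⟩
  rw [tr_eq_iff, smul_vecMulVec, vecMulVec_smul]

theorem cen_smul {c : F} (hc : c ≠ 0) (a : VV) : Cen (c • a) = Cen a := by
  refine le_antisymm (cen_smul_le hc a) ?_
  have := cen_smul_le (inv_ne_zero hc) (c • a)
  rwa [smul_smul, inv_mul_cancel₀ hc, one_smul] at this

theorem ax_smul_le {c : F} (hc : c ≠ 0) (a : VV) : Ax (c • a) ≤ Ax a := by
  rintro _ ⟨b, h, rfl⟩
  have h1 : a ⬝ᵥ b = 0 := by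
    rw [smul_dotProduct, smul_eq_zero] at h
    exact h.resolve_left hc
  refine ⟨c • b, by rw [dotProduct_smul, h1, smul_zero], ?_⟩
  rw [tr_eq_iff, smul_vecMulVec, vecMulVec_smul]

theorem ax_smul {c : F} (hc : c ≠ 0) (a : VV) : Ax (c • a) = Ax a := by
  refine le_antisymm (ax_smul_le hc a) ?_
  have := ax_smul_le (inv_ne_zero hc) (c • a)
  rwa [smul_smul, inv_mul_cancel₀ hc, one_smul] at this

theorem cj_cen_le (A : GL (Fin d) F) (a : VV) :
    (Cen a).map (cj A).toMonoidHom ≤ Cen ((A : Matrix (Fin d) (Fin d) F) *ᵥ a) := by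
  rintro _ ⟨_, ⟨φ, h, rfl⟩, rfl⟩
  exact ⟨_, _, cj_tr A a φ h⟩

theorem cj_ax_le (A : GL (Fin d) F) (φ : VV) :
    (Ax φ).map (cj A).toMonoidHom ≤ Ax (φ ᵥ* ((A⁻¹ : GL (Fin d) F) : Matrix (Fin d) (Fin d) F)) := by
  rintro _ ⟨_, ⟨a, h, rfl⟩, rfl⟩
  exact ⟨_, _, cj_tr A a φ h⟩

theorem comp_dotProduct (σ : F ≃+* F) (φ a : VV) : (σ ∘ φ) ⬝ᵥ (σ ∘ a) = σ (φ ⬝ᵥ a) := by
  simp [dotProduct, map_sum]

theorem fld_tr (σ : F ≃+* F) (a φ : VV) (h : φ ⬝ᵥ a = 0) :
    fld σ (tr a φ h) = tr (σ ∘ a) (σ ∘ φ) (by rw [comp_dotProduct, h, map_zero]) := by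
  apply Subtype.ext
  ext i j
  rw [coe_fld_apply, coe_tr, coe_tr, Matrix.add_apply, Matrix.add_apply, map_add, one_apply, vecMulVec_apply,
    vecMulVec_apply, map_mul]
  split_ifs <;> simp

theorem fld_cen_le (σ : F ≃+* F) (a : VV) : (Cen a).map (fld σ).toMonoidHom ≤ Cen (σ ∘ a) := by
  rintro _ ⟨_, ⟨φ, h, rfl⟩, rfl⟩
  exact ⟨_, _, fld_tr σ a φ h⟩

theorem fld_ax_le (σ : F ≃+* F) (a : VV) : (Ax a).map (fld σ).toMonoidHom ≤ Ax (σ ∘ a) := by
  rintro _ ⟨_, ⟨φ, h, rfl⟩, rfl⟩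
  exact ⟨_, _, fld_tr σ _ _ h⟩

theorem itr_tr (a φ : VV) (h : φ ⬝ᵥ a = 0) :
    itr (tr a φ h) = tr (-φ) a (by rw [dotProduct_neg, dotProduct_comm, h, neg_zero]) := by
  apply Subtype.ext
  rw [coe_itr, tr_inv, coe_tr, coe_tr, transpose_add, transpose_one]
  congr 1
  ext i j
  simp [vecMulVec_apply, mul_comm]

theorem itr_cen_le (a : VV) : (Cen a).map (itr (F := F) (ι := Fin d)).toMonoidHom ≤ Ax a := by
  rintro _ ⟨_, ⟨φ, h, rfl⟩, rfl⟩
  exact ⟨_, _, itr_tr a φ h⟩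

theorem itr_ax_le (a : VV) : (Ax a).map (itr (F := F) (ι := Fin d)).toMonoidHom ≤ Cen a := by
  rintro _ ⟨_, ⟨φ, h, rfl⟩, rfl⟩
  refine ⟨-φ, by rw [neg_dotProduct, dotProduct_comm, h, neg_zero], ?_⟩
  change itr (tr φ a h) = _
  rw [itr_tr, tr_eq_iff]
  ext i j
  simp [vecMulVec_apply]

/-! ### Orders -/

section card

variable [Fintype F]

theorem card_perp {a : VV} (ha : a ≠ 0) : Nat.card {φ : VV // φ ⬝ᵥ a = 0} = Fintype.card F ^ (d - 1) := by
  classical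
  let f : VV →ₗ[F] F := 
    { toFun := fun φ => φ ⬝ᵥ a
      map_add' := fun x y => add_dotProduct _ _ _
      map_smul' := fun c x => by rw [smul_dotProduct]; rfl }
  have hf : f ≠ 0 := by
    intro h
    obtain ⟨i, hi⟩ := Function.ne_iff.1 ha
    apply hi
    have := LinearMap.congr_fun h (Pi.single i 1)
    simpa [f] using this
  have h1 : Module.finrank F (LinearMap.ker f) + 1 = d := by
    have := Module.Dual.finrank_ker_add_one_of_ne_zero (f := f) hf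
    rwa [Module.finrank_fin_fun] at this
  have h2 : Nat.card {φ : VV // φ ⬝ᵥ a = 0} = Nat.card (LinearMap.ker f) :=
    Nat.card_congr (Equiv.subtypeEquivRight fun φ => by simp [f])
  rw [h2, Module.natCard_eq_pow_finrank (K := F), Nat.card_eq_fintype_card]
  congr 1
  omega

theorem card_cen {a : VV} (ha : a ≠ 0) : Nat.card (Cen a) = Fintype.card F ^ (d - 1) := by
  rw [← card_perp ha]
  symm
  apply Nat.card_eq_of_bijective (fun φ : {φ : VV // φ ⬝ᵥ a = 0} => (⟨tr a φ.1 φ.2, φ.1, φ.2, rfl⟩ : Cen a))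
  constructor
  · rintro ⟨φ, h⟩ ⟨ψ, h'⟩ he
    have h1 : vecMulVec a φ = vecMulVec a ψ := (tr_eq_iff (h := h) (h' := h')).1 (congrArg Subtype.val he)
    apply Subtype.ext
    obtain ⟨i, hi⟩ := Function.ne_iff.1 ha
    funext j
    have h2 := congrFun (congrFun h1 i) j
    rw [vecMulVec_apply, vecMulVec_apply] at h2
    exact mul_left_cancel₀ hi h2
  · rintro ⟨_, φ, h, rfl⟩
    exact ⟨⟨φ, h⟩, rfl⟩

theorem card_ax {a : VV} (ha : a ≠ 0) : Nat.card (Ax a) = Fintype.card F ^ (d - 1) := by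
  have h1 := Subgroup.card_map_of_injective (K := Ax a) (f := (itr (F := F) (ι := Fin d)).toMonoidHom) itr.injective
  have h2 := Subgroup.card_map_of_injective (K := Cen a) (f := (itr (F := F) (ι := Fin d)).toMonoidHom) itr.injective
  refine le_antisymm ?_ ?_
  · rw [← card_cen ha, ← h1]
    exact Nat.card_le_card_of_injective _ (Subgroup.inclusion_injective (itr_ax_le a))
  · rw [← card_cen ha, ← h2]
    exact Nat.card_le_card_of_injective _ (Subgroup.inclusion_injective (itr_cen_le a))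

end card

/-! ### The root subgroups of `PSL` -/

/-- the root subgroups of `PSL` -/
noncomputable def RR : ℙ F VV ⊕ ℙ F VV → Subgroup PSL
  | Sum.inl v => (Cen v.rep).map pr
  | Sum.inr w => (Ax w.rep).map pr

theorem RR_inl_mk (a : VV) (ha : a ≠ 0) : RR (Sum.inl (Projectivization.mk F a ha)) = (Cen a).map pr := by
  obtain ⟨c, hc⟩ := Projectivization.exists_smul_eq_mk_rep F a ha
  rw [RR, ← hc]
  change (Cen ((c : F) • a)).map pr = _
  rw [cen_smul c.ne_zero]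

theorem RR_inr_mk (a : VV) (ha : a ≠ 0) : RR (Sum.inr (Projectivization.mk F a ha)) = (Ax a).map pr := by
  obtain ⟨c, hc⟩ := Projectivization.exists_smul_eq_mk_rep F a ha
  rw [RR, ← hc]
  change (Ax ((c : F) • a)).map pr = _
  rw [ax_smul c.ne_zero]

section card

variable [Fintype F]

theorem card_RR (x : ℙ F VV ⊕ ℙ F VV) : Nat.card (RR x) = Fintype.card F ^ (d - 1) := by
  have key : ∀ K : Subgroup SL, (∀ y ∈ K, ∃ (a φ : VV) (h : φ ⬝ᵥ a = 0), y = tr a φ h) →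
      Nat.card (K.map pr) = Nat.card K := by
    intro K hK
    symm
    apply Nat.card_eq_of_bijective (fun y : K => (⟨pr y.1, Subgroup.mem_map_of_mem _ y.2⟩ : K.map pr))
    constructor
    · rintro ⟨y, hy⟩ ⟨z, hz⟩ h
      obtain ⟨a, φ, h1, rfl⟩ := hK y hy
      obtain ⟨b, ψ, h2, rfl⟩ := hK z hz
      exact Subtype.ext (tr_eq_of_pr_eq (h := h1) (h' := h2) (congrArg Subtype.val h))
    · rintro ⟨_, y, hy, rfl⟩
      exact ⟨⟨y, hy⟩, rfl⟩
  rcases x with v | w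
  · rw [RR, key _ (fun y hy => ⟨_, hy⟩), card_cen v.rep_nonzero]
  · rw [RR, key _ (fun y hy => by obtain ⟨a, h, rfl⟩ := hy; exact ⟨_, _, _, rfl⟩), card_ax w.rep_nonzero]

theorem eq_of_le_of_card {X : Type*} [Group X] [Finite X] {A B : Subgroup X} (h : A ≤ B)
    (hc : Nat.card A = Nat.card B) : A = B := Subgroup.eq_of_le_of_card_ge h hc.ge

/-- every automorphism of `PSL_d(q)`, `d ≥ 3`, permutes the root subgroups -/
theorem exists_map_RR (hd : 3 ≤ d) (α : MulAut PSL) (x : ℙ F VV ⊕ ℙ F VV) :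
    ∃ y, (RR x).map α.toMonoidHom = RR y := by
  obtain ⟨p, hp⟩ := CharP.exists F
  have hpp : Fact p.Prime := ⟨CharP.char_is_prime F p⟩
  -- it suffices to have `≤`
  have suff : ∀ y, (RR x).map α.toMonoidHom ≤ RR y → (RR x).map α.toMonoidHom = RR y := by
    intro y hy
    refine eq_of_le_of_card hy ?_
    rw [Subgroup.card_map_of_injective (f := α.toMonoidHom) α.injective, card_RR, card_RR]
  have hlift : ∀ (e : MulAut SL) (K L : Subgroup SL), K.map e.toMonoidHom ≤ L →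
      (K.map pr).map (lift e).toMonoidHom ≤ L.map pr := by
    rintro e K L h _ ⟨_, ⟨y, hy, rfl⟩, rfl⟩
    exact ⟨e y, h ⟨y, hy, rfl⟩, rfl⟩
  have mulne : ∀ (A : GL (Fin d) F) (a : VV), a ≠ 0 → (A : Matrix (Fin d) (Fin d) F) *ᵥ a ≠ 0 := by
    intro A a ha h
    apply ha
    have := congrArg (fun z => ((A⁻¹ : GL (Fin d) F) : Matrix (Fin d) (Fin d) F) *ᵥ z) h
    simpa [mulVec_mulVec, ← Units.val_mul] using this
  have vmulne : ∀ (A : GL (Fin d) F) (a : VV), a ≠ 0 → a ᵥ* ((A⁻¹ : GL (Fin d) F) : Matrix (Fin d) (Fin d) F) ≠ 0 := by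
    intro A a ha h
    apply ha
    have := congrArg (fun z => z ᵥ* (A : Matrix (Fin d) (Fin d) F)) h
    simpa [vecMul_vecMul, ← Units.val_mul] using this
  have compne : ∀ (σ : F ≃+* F) (a : VV), a ≠ 0 → σ ∘ a ≠ 0 := by
    intro σ a ha h
    apply ha
    funext i
    have := congrFun h i
    exact (map_eq_zero σ).1 this
  have mm : ∀ (K L M : Subgroup SL) (e f : MulAut SL), K.map e.toMonoidHom ≤ L → L.map f.toMonoidHom ≤ M →
      K.map (f * e).toMonoidHom ≤ M := by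
    rintro K L M e f h1 h2 _ ⟨y, hy, rfl⟩
    exact h2 ⟨e y, h1 ⟨y, hy, rfl⟩, rfl⟩
  rcases surj_three p hd α with ⟨A, σ, rfl⟩ | ⟨A, σ, rfl⟩
  · rcases x with v | w
    · refine ⟨Sum.inl (Projectivization.mk F _ (mulne A _ (compne σ _ v.rep_nonzero))), suff _ ?_⟩
      rw [RR_inl_mk]
      exact hlift _ _ _ (mm _ _ _ _ _ (fld_cen_le σ _) (cj_cen_le A _))
    · refine ⟨Sum.inr (Projectivization.mk F _ (vmulne A _ (compne σ _ w.rep_nonzero))), suff _ ?_⟩
      rw [RR_inr_mk]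
      exact hlift _ _ _ (mm _ _ _ _ _ (fld_ax_le σ _) (cj_ax_le A _))
  · rcases x with v | w
    · refine ⟨Sum.inr (Projectivization.mk F _ (vmulne A _ (compne σ _ v.rep_nonzero))), suff _ ?_⟩
      rw [RR_inr_mk]
      exact hlift _ _ _ (mm _ _ _ _ _ (itr_cen_le _) (mm _ _ _ _ _ (fld_ax_le σ _) (cj_ax_le A _)))
    · refine ⟨Sum.inl (Projectivization.mk F _ (mulne A _ (compne σ _ w.rep_nonzero))), suff _ ?_⟩
      rw [RR_inl_mk]
      exact hlift _ _ _ (mm _ _ _ _ _ (itr_ax_le _) (mm _ _ _ _ _ (fld_cen_le σ _) (cj_cen_le A _)))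

/-- non-trivial elements of a root group of centre type are transvections -/
theorem mem_RR_inl {v : ℙ F VV} {y : PSL} (hy : y ∈ RR (Sum.inl v)) (h1 : y ≠ 1) :
    ∃ (φ : VV) (h : φ ⬝ᵥ v.rep = 0), φ ≠ 0 ∧ y = pr (tr v.rep φ h) := by
  obtain ⟨_, ⟨φ, h, rfl⟩, rfl⟩ := hy
  refine ⟨φ, h, ?_, rfl⟩
  rintro rfl
  exact h1 (by rw [tr_zero_right, map_one])

/-- a transvection determines its centre -/
theorem eq_of_mem {v w : ℙ F VV} {y : PSL} (hy : y ∈ RR (Sum.inl v)) (hy' : y ∈ RR (Sum.inl w)) (h1 : y ≠ 1) :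
    v = w := by
  obtain ⟨φ, h, hφ, rfl⟩ := mem_RR_inl hy h1
  obtain ⟨ψ, h', hψ, he⟩ := mem_RR_inl hy' h1
  obtain ⟨c, hc⟩ := exists_smul_of_vecMulVec_eq hφ (tr_eq_iff.1 (tr_eq_of_pr_eq he))
  have hc0 : c ≠ 0 := by
    rintro rfl
    rw [zero_smul] at hc
    exact v.rep_nonzero hc
  rw [← v.mk_rep, ← w.mk_rep, Projectivization.mk_eq_mk_iff']
  exact ⟨c, hc.symm⟩

theorem mem_RR_inr {w : ℙ F VV} {y : PSL} (hy : y ∈ RR (Sum.inr w)) (h1 : y ≠ 1) :
    ∃ (a : VV) (h : w.rep ⬝ᵥ a = 0), a ≠ 0 ∧ y = pr (tr a w.rep h) := by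
  obtain ⟨_, ⟨φ, h, rfl⟩, rfl⟩ := hy
  refine ⟨φ, h, ?_, rfl⟩
  rintro rfl
  exact h1 (by rw [tr_zero_left, map_one])

/-- a transvection determines its axis -/
theorem eq_of_mem' {v w : ℙ F VV} {y : PSL} (hy : y ∈ RR (Sum.inr v)) (hy' : y ∈ RR (Sum.inr w)) (h1 : y ≠ 1) :
    v = w := by
  obtain ⟨φ, h, hφ, rfl⟩ := mem_RR_inr hy h1
  obtain ⟨ψ, h', hψ, he⟩ := mem_RR_inr hy' h1
  obtain ⟨c, hc⟩ := exists_smul_of_vecMulVec_eq' hφ (tr_eq_iff.1 (tr_eq_of_pr_eq he))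
  have hc0 : c ≠ 0 := by
    rintro rfl
    rw [zero_smul] at hc
    exact v.rep_nonzero hc
  rw [← v.mk_rep, ← w.mk_rep, Projectivization.mk_eq_mk_iff']
  exact ⟨c, hc.symm⟩

theorem exists_ne_one (hd : 2 ≤ d) (x : ℙ F VV ⊕ ℙ F VV) : ∃ y ∈ RR x, y ≠ 1 := by
  have h1 : 1 < Nat.card (RR x) := by
    rw [card_RR]
    exact Nat.one_lt_pow (by omega) Fintype.one_lt_card
  have := Finite.one_lt_card_iff_nontrivial.1 h1
  obtain ⟨y, hy⟩ := exists_ne (1 : RR x)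
  exact ⟨y, y.2, fun h => hy (Subtype.ext h)⟩

theorem inl_ne_inr (hd : 3 ≤ d) (v w : ℙ F VV) : RR (Sum.inl v) ≠ RR (Sum.inr w) := by
  intro he
  have h1 : ∀ (φ : VV), φ ⬝ᵥ v.rep = 0 → ∃ c : F, φ = c • w.rep := by
    intro φ hφ
    by_cases h0 : φ = 0
    · exact ⟨0, by rw [h0, zero_smul]⟩
    have h2 : pr (tr v.rep φ hφ) ∈ RR (Sum.inr w) := by
      rw [← he]
      exact ⟨_, ⟨φ, hφ, rfl⟩, rfl⟩
    obtain ⟨_, ⟨b, h3, rfl⟩, h4⟩ := h2
    exact exists_smul_of_vecMulVec_eq' v.rep_nonzero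
      ((tr_eq_iff (h := hφ) (h' := h3)).1 (tr_eq_of_pr_eq (h := hφ) (h' := h3) h4.symm))
  have h2 : Nat.card {φ : VV // φ ⬝ᵥ v.rep = 0} ≤ Nat.card F := by
    choose f hf using h1
    refine Nat.card_le_card_of_injective (fun φ : {φ : VV // φ ⬝ᵥ v.rep = 0} => f φ.1 φ.2) ?_
    rintro ⟨φ, h⟩ ⟨ψ, h'⟩ h3
    apply Subtype.ext
    change f φ h = f ψ h' at h3
    change φ = ψ
    rw [hf φ h, hf ψ h', h3]
  rw [card_perp v.rep_nonzero, Nat.card_eq_fintype_card] at h2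
  have h3 : Fintype.card F ^ 2 ≤ Fintype.card F ^ (d - 1) := Nat.pow_le_pow_right Fintype.card_pos (by omega)
  have h4 : 1 < Fintype.card F := Fintype.one_lt_card
  nlinarith

theorem RR_injective (hd : 3 ≤ d) : Function.Injective (RR (F := F) (d := d)) := by
  rintro (v | v) (w | w) h
  · obtain ⟨y, hy, h1⟩ := exists_ne_one (by omega) (Sum.inl v)
    rw [eq_of_mem hy (h ▸ hy) h1]
  · exact absurd h (inl_ne_inr hd v w)
  · exact absurd h.symm (inl_ne_inr hd w v)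
  · obtain ⟨y, hy, h1⟩ := exists_ne_one (by omega) (Sum.inr v)
    rw [eq_of_mem' hy (h ▸ hy) h1]

/-- the permutation of the root subgroups induced by an automorphism -/
theorem exists_perm (hd : 3 ≤ d) (α : MulAut PSL) :
    ∃ σ : Equiv.Perm (ℙ F VV ⊕ ℙ F VV), ∀ x, (RR x).map α.toMonoidHom = RR (σ x) := by
  choose f hf using exists_map_RR hd α
  have hinj : Function.Injective f := by
    intro x y hxy
    apply RR_injective hd
    apply Subgroup.map_injective (f := α.toMonoidHom) α.injective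
    rw [hf, hf, hxy]
  have : Finite (ℙ F VV ⊕ ℙ F VV) := inferInstance
  exact ⟨Equiv.ofBijective f (Finite.injective_iff_bijective.1 hinj), hf⟩

/-- inner automorphisms: the action of `SL` on the points -/
theorem map_conj_inl (A : SL) (v : ℙ F VV) :
    (RR (Sum.inl v)).map (MulAut.conj (pr A)).toMonoidHom = RR (Sum.inl (A • v)) := by
  refine eq_of_le_of_card ?_ ?_
  · obtain ⟨a, ha, rfl⟩ : ∃ (a : VV) (ha : a ≠ 0), Projectivization.mk F a ha = v := ⟨_, v.rep_nonzero, v.mk_rep⟩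
    have h1 : A • Projectivization.mk F a ha = Projectivization.mk F (A • a) ((smul_ne_zero_iff_ne A).mpr ha) := rfl
    rw [h1, RR_inl_mk, RR_inl_mk]
    rintro _ ⟨_, ⟨_, ⟨φ, h, rfl⟩, rfl⟩, rfl⟩
    have h2 := cj_tr (A : GL (Fin d) F) a φ h
    refine ⟨MulAut.conj A (tr a φ h), ?_, ?_⟩
    · have h3 : MulAut.conj A (tr a φ h) = cj (A : GL (Fin d) F) (tr a φ h) := by
        apply Subtype.ext
        rw [coe_cj, MulAut.conj_apply, Matrix.SpecialLinearGroup.coe_mul, Matrix.SpecialLinearGroup.coe_mul]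
        rfl
      rw [h3, h2]
      exact ⟨_, _, rfl⟩
    · rw [MulAut.conj_apply, map_mul, map_mul, map_inv]
      rfl
  · rw [Subgroup.card_map_of_injective (f := (MulAut.conj (pr A)).toMonoidHom) (MulAut.conj (pr A)).injective,
      card_RR, card_RR]

/-- inner automorphisms: the action of `SL` on the hyperplanes -/
theorem map_conj_inr (A : SL) (v : ℙ F VV) :
    (RR (Sum.inr v)).map (MulAut.conj (pr A)).toMonoidHom = RR (Sum.inr (itr A • v)) := by
  refine eq_of_le_of_card ?_ ?_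
  · obtain ⟨a, ha, rfl⟩ : ∃ (a : VV) (ha : a ≠ 0), Projectivization.mk F a ha = v := ⟨_, v.rep_nonzero, v.mk_rep⟩
    have h1 : itr A • Projectivization.mk F a ha = Projectivization.mk F (itr A • a) ((smul_ne_zero_iff_ne _).mpr ha) := rfl
    rw [h1, RR_inr_mk, RR_inr_mk]
    rintro _ ⟨_, ⟨_, ⟨φ, h, rfl⟩, rfl⟩, rfl⟩
    have h2 := cj_tr (A : GL (Fin d) F) φ a h
    refine ⟨MulAut.conj A (tr φ a h), ?_, ?_⟩
    · have h3 : MulAut.conj A (tr φ a h) = cj (A : GL (Fin d) F) (tr φ a h) := by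
        apply Subtype.ext
        rw [coe_cj, MulAut.conj_apply, Matrix.SpecialLinearGroup.coe_mul, Matrix.SpecialLinearGroup.coe_mul]
        rfl
      have h4 : itr A • a = a ᵥ* (((A : GL (Fin d) F)⁻¹ : GL (Fin d) F) : Matrix (Fin d) (Fin d) F) := by
        change (itr A : Matrix (Fin d) (Fin d) F) *ᵥ a = _
        rw [coe_itr, mulVec_transpose]
        rfl
      rw [h3, h2, h4]
      exact ⟨_, _, rfl⟩
    · rw [MulAut.conj_apply, map_mul, map_mul, map_inv]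
      rfl
  · rw [Subgroup.card_map_of_injective (f := (MulAut.conj (pr A)).toMonoidHom) (MulAut.conj (pr A)).injective,
      card_RR, card_RR]

end card

end Cfsg.Agent.H221.PSLRoots
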