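import Cfsg.Agent.NotCT.Orders
import Cfsg.Agent.H498.SporOut

/-!
# Almost simple groups with sporadic socle have no 2-part between `2^11` and `2^13` (helper221, for S3217)
-/

set_option autoImplicit false

namespace Cfsg.Agent.H221

open Cfsg Cfsg.Agent.NotCT

/-- A normal subgroup with trivial centralizer: the index is at most `|Aut(N) : Inn(N)|`. -/
theorem index_le_out {G : Type*} [Group G] [Finite G] {N : Subgroup G} (hN : N.Normal)
    (hc : Subgroup.centralizer (N : Set G) = ⊥) : N.index ≤ (MulAut.conj : ↥N →* MulAut ↥N).range.index := by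
  have h1 : Function.Injective (MulAut.conjNormal : G →* MulAut ↥N) := by
    rw [injective_iff_map_eq_one]
    intro g hg
    have h2 : g ∈ Subgroup.centralizer (N : Set G) := by
      rw [Subgroup.mem_centralizer_iff]
      intro n hn
      have h3 := congrArg (fun f : MulAut ↥N => ((f ⟨n, hn⟩ : ↥N) : G)) hg
      simp only [MulAut.conjNormal_apply, MulAut.one_apply] at h3
      rw [mul_inv_eq_iff_eq_mul] at h3
      exact h3.symm
    rw [hc] at h2
    exact h2
  have h2 : Nat.card G ≤ Nat.card (MulAut ↥N) := Nat.card_le_card_of_injective _ h1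
  have h3 : Nat.card ↥(MulAut.conj : ↥N →* MulAut ↥N).range ≤ Nat.card ↥N :=
    Nat.card_le_card_of_surjective _ (MulAut.conj : ↥N →* MulAut ↥N).rangeRestrict_surjective
  have h4 := N.card_mul_index
  have h5 := (MulAut.conj : ↥N →* MulAut ↥N).range.card_mul_index
  have h6 : 0 < Nat.card ↥N := Nat.card_pos
  have h7 : Nat.card ↥N * N.index ≤ Nat.card ↥N * (MulAut.conj : ↥N →* MulAut ↥N).range.index := by
    rw [h4]
    refine h2.trans ?_
    rw [← h5]
    exact Nat.mul_le_mul_right _ h3
  exact Nat.le_of_mul_le_mul_left h7 h6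

/-- the sporadic orders are not divisible exactly by `2^11` or `2^12` -/
theorem spor_two_part {M : Type*} [Group M] (h : Cfsg.IsSporadicGroup M) (h11 : 2 ^ 11 ∣ Nat.card M)
    (h13 : ¬ 2 ^ 13 ∣ Nat.card M) : False := by
  have key : ∀ {N : ℕ}, Nat.card M = N → ((¬ 2 ^ 11 ∣ N) ∨ 2 ^ 13 ∣ N) → False := by
    rintro N rfl (c | c)
    · exact c h11
    · exact h13 c
  rcases h with (h | h | h | h | h | h | h | h | h | h | h | h | h | h | h | h | h | h | h | h | h | h |
    h | h | h | h)
  · exact key (Orders.m11 h) (by norm_num)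
  · exact key (Orders.m12 h) (by norm_num)
  · exact key (Orders.m22 h) (by norm_num)
  · exact key (Orders.m23 h) (by norm_num)
  · exact key (Orders.m24 h) (by norm_num)
  · exact key (Orders.j1 h) (by norm_num)
  · exact key (Orders.j2 h) (by norm_num)
  · exact key (Orders.j3 h) (by norm_num)
  · exact key (Orders.j4 h) (by norm_num)
  · exact key (Orders.co1 h) (by norm_num)
  · exact key (Orders.co2 h) (by norm_num)
  · exact key (Orders.co3 h) (by norm_num)
  · exact key (Orders.mcl h) (by norm_num)
  · exact key (Orders.hs h) (by norm_num)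
  · exact key (Orders.suz h) (by norm_num)
  · exact key (Orders.he h) (by norm_num)
  · exact key (Orders.ru h) (by norm_num)
  · exact key (Orders.on h) (by norm_num)
  · exact key (Orders.ly h) (by norm_num)
  · exact key (Orders.fi22 h) (by norm_num)
  · exact key (Orders.fi23 h) (by norm_num)
  · exact key (Orders.fi24 h) (by norm_num)
  · exact key (Orders.hn h) (by norm_num)
  · exact key (Orders.th h) (by norm_num)
  · exact key (Orders.b h) (by norm_num)
  · exact key (Orders.m h) (by norm_num)

theorem spor_out {G : Type*} [Group G] [Finite G] {M : Subgroup G} (hM : M.Normal)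
    (hc : Subgroup.centralizer (M : Set G) = ⊥) (hs : Cfsg.IsSporadicGroup ↥M) (_h9 : 2 ^ 9 ∣ Nat.card ↥M)
    (h13 : ¬ 2 ^ 13 ∣ Nat.card ↥M) (h12 : 2 ^ 12 ∣ Nat.card G) : False := by
  have h1 : M.index ≤ 2 := (index_le_out hM hc).trans (H498.SporOut.index_le_two hs)
  have h2 : M.index ≠ 0 := Subgroup.index_ne_zero_of_finite
  have h3 := M.card_mul_index
  refine spor_two_part hs ?_ h13
  rw [← h3] at h12
  rcases (by omega : M.index = 1 ∨ M.index = 2) with h | h
  · rw [h, mul_one] at h12
    exact (pow_dvd_pow 2 (by norm_num)).trans h12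
  · rw [h, show (2 : ℕ) ^ 12 = 2 ^ 11 * 2 by norm_num] at h12
    exact Nat.dvd_of_mul_dvd_mul_right (by norm_num) h12

end Cfsg.Agent.H221
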