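import Cfsg.Agent.H221.PPPsl
import Cfsg.Agent.H221.TwoTransPSL
import Cfsg.Agent.H384.TwoTransOf
import Cfsg.Agent.H384.TwoTransPPCore
import Cfsg.Agent.H436.TTPsl2

/-!
# HUB H1: the row `psl` (helper221)
-/

set_option autoImplicit false

namespace Cfsg.Agent.H221.TwoTransPSLRow

open MulAction Cfsg.Agent.H384.TwoTrans

universe u v

/-- 2-transitive groups with socle `PSL_d(q)`, `d ≥ 3`, of degree divisible by the characteristic -/
theorem psl_three {G : Type u} {Ω : Type v} [Group G] [MulAction G Ω] {T : Subgroup G} (A : AS G Ω T)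
    {F : Type} [Field F] [Fintype F] {p : ℕ} (hp : p.Prime) [CharP F p] {d : ℕ} (hd : 3 ≤ d)
    (e : Nonempty (↥T ≃* Matrix.ProjectiveSpecialLinearGroup (Fin d) F)) (hdvd : p ∣ Nat.card Ω) :
    Known2 ↥T (Nat.card Ω) := by
  have := A.finG
  have := A.finΩ
  have := A.faithful
  have := Fintype.ofFinite Ω
  have := A.nontrivialΩ
  obtain ⟨e⟩ := e
  obtain ⟨j, -, hq⟩ := FiniteField.card F p
  have hj : 1 ≤ (j : ℕ) := j.2
  obtain ⟨k, hk, hn⟩ : ∃ k, 1 ≤ k ∧ Nat.card Ω = p ^ k := by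
    have hc : ringChar F = p := (ringChar.eq F p).symm ▸ rfl
    rcases Cfsg.Agent.H221.TwoTransPSL.card_eq hd A.two T A.normal e (by
      rw [hc, ← Nat.card_eq_fintype_card]; exact hdvd) with h | h
    · refine ⟨j * (d - 1), Nat.one_le_iff_ne_zero.2 (Nat.mul_ne_zero (by omega) (by omega)), ?_⟩
      rw [Nat.card_eq_fintype_card, h, hq, ← pow_mul]
    · refine ⟨j * d, Nat.one_le_iff_ne_zero.2 (Nat.mul_ne_zero (by omega) (by omega)), ?_⟩
      rw [Nat.card_eq_fintype_card, h, hq, ← pow_mul]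
  obtain ⟨a⟩ : Nonempty Ω := inferInstance
  have h1 : (stabilizer T a).index = p ^ k := by rw [A.index_stabilizer, hn]
  have h2 : Cfsg.Agent.H408.Idx8.Out ↥T p k := (Cfsg.Agent.H221.PP.idx hp hd).congr e.symm _ k hk h1
  exact A.known_of_index hn h2

/-- **The row `psl` of HUB H1.** -/
theorem psl_row : RowDvd.{u, v} fun p T _ => Cfsg.IsPSLChar p T := by
  rintro G Ω _ _ T p hp hdvd A ⟨F, i1, i2, i3, n, hn, -, e⟩
  by_cases h2 : n = 2
  · subst h2
    exact Cfsg.Agent.H436.TT.psl2 A F e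
  · exact psl_three A hp (by omega) e hdvd

end Cfsg.Agent.H221.TwoTransPSLRow
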